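import Mathlib

/-!
# Groups whose maximal subgroups are Hall subgroups: the abstract interface (helper554)

* `Stab A X` : the images of `X` under the automorphisms in `A` are conjugates of `X`;
* `HallSys S A n` : every proper nontrivial subgroup `X` of `S` with `Stab A X` lies in a proper Hall subgroup
  `M` with `Stab A M` and index prime to `n`; `A` contains the inner automorphisms, with index dividing `n`;
* `NoHall S` : there is no such system;
* `Stab.normalizer`, `Stab.centralizer`, `stab_sylow`;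
* `HallSys.sylow` : the overgroup of a Sylow normaliser, with index `≡ 1` modulo `r`.
-/

set_option autoImplicit false

namespace Cfsg.Agent.H554

open Subgroup

variable {S S' : Type*} [Group S] [Group S']

/-- The images of `X` under `A` are conjugate to `X`. -/
def Stab (A : Subgroup (MulAut S)) (X : Subgroup S) : Prop :=
  ∀ a ∈ A, ∃ s : S, X.map (a : S ≃* S).toMonoidHom = X.map (MulAut.conj s).toMonoidHom

/-- The Hall property of a simple group `S` with a group of automorphisms `A`. -/
structure HallSys (S : Type*) [Group S] (A : Subgroup (MulAut S)) (n : ℕ) : Prop where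
  inn : ∀ s : S, MulAut.conj s ∈ A
  idx : (MulAut.conj : S →* MulAut S).range.relIndex A ∣ n
  hall : ∀ X : Subgroup S, X ≠ ⊥ → X ≠ ⊤ → Stab A X → ∃ M : Subgroup S, X ≤ M ∧ M ≠ ⊤ ∧ Stab A M ∧
    (Nat.card M).Coprime M.index ∧ M.index.Coprime n

/-- There is no Hall system. -/
def NoHall (S : Type*) [Group S] : Prop := ∀ (A : Subgroup (MulAut S)) (n : ℕ), ¬ HallSys S A n

/-! ### `Stab` -/

theorem map_conj_map_conj (s t : S) (X : Subgroup S) :
    (X.map (MulAut.conj t).toMonoidHom).map (MulAut.conj s).toMonoidHom = X.map (MulAut.conj (s * t)).toMonoidHom := by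
  rw [Subgroup.map_map]
  congr 1
  ext y
  simp [mul_assoc]

theorem map_conj_one (X : Subgroup S) : X.map (MulAut.conj (1 : S)).toMonoidHom = X := by
  have : (MulAut.conj (1 : S)).toMonoidHom = MonoidHom.id S := by ext y; simp
  rw [this, Subgroup.map_id]

theorem map_conj_inj {s : S} {X Y : Subgroup S}
    (h : X.map (MulAut.conj s).toMonoidHom = Y.map (MulAut.conj s).toMonoidHom) : X = Y := by
  have := congrArg (fun Z : Subgroup S => Z.map (MulAut.conj s⁻¹).toMonoidHom) h
  simpa only [map_conj_map_conj, inv_mul_cancel, map_conj_one] using this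

theorem mem_map_conj {s y : S} {X : Subgroup S} :
    y ∈ X.map (MulAut.conj s).toMonoidHom ↔ s⁻¹ * y * s ∈ X := by
  constructor
  · rintro ⟨x, hx, rfl⟩
    simpa [mul_assoc] using hx
  · intro h
    exact ⟨s⁻¹ * y * s, h, by simp [mul_assoc]⟩

theorem mem_normalizer_iff_map {s : S} {X : Subgroup S} :
    s ∈ normalizer (X : Set S) ↔ X.map (MulAut.conj s).toMonoidHom = X := by
  rw [Subgroup.mem_normalizer_iff]
  constructor
  · intro h
    ext y
    rw [mem_map_conj]
    have := h (s⁻¹ * y * s)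
    rw [this]
    have e : s * (s⁻¹ * y * s) * s⁻¹ = y := by group
    rw [e]
  · intro h y
    have e : y ∈ X ↔ s * y * s⁻¹ ∈ X.map (MulAut.conj s).toMonoidHom := by
      rw [mem_map_conj]
      have e : s⁻¹ * (s * y * s⁻¹) * s = y := by group
      rw [e]
    rw [e, h]

theorem normalizer_map_equiv (a : S ≃* S') (X : Subgroup S) :
    normalizer ((X.map a.toMonoidHom : Subgroup S') : Set S') = (normalizer (X : Set S)).map a.toMonoidHom := by
  ext y
  obtain ⟨x, rfl⟩ := a.surjective y
  rw [Subgroup.mem_normalizer_iff]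
  constructor
  · intro h
    refine ⟨x, ?_, rfl⟩
    refine Subgroup.mem_normalizer_iff.mpr fun z => ?_
    have := h (a z)
    have e1 : a z ∈ X.map a.toMonoidHom ↔ z ∈ X :=
      ⟨fun ⟨w, hw, e⟩ => a.injective e ▸ hw, fun hz => ⟨z, hz, rfl⟩⟩
    have e2 : a x * a z * (a x)⁻¹ ∈ X.map a.toMonoidHom ↔ x * z * x⁻¹ ∈ X :=
      ⟨fun ⟨w, hw, e⟩ => by
        have : a w = a (x * z * x⁻¹) := by rw [map_mul, map_mul, map_inv]; exact e
        exact a.injective this ▸ hw, fun hz => ⟨_, hz, by simp⟩⟩
    rw [← e1, ← e2]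
    exact this
  · rintro ⟨x', hx', e⟩ z
    obtain rfl : x' = x := a.injective e
    obtain ⟨z, rfl⟩ := a.surjective z
    have e1 : a z ∈ X.map a.toMonoidHom ↔ z ∈ X :=
      ⟨fun ⟨w, hw, e⟩ => a.injective e ▸ hw, fun hz => ⟨z, hz, rfl⟩⟩
    have e2 : a x' * a z * (a x')⁻¹ ∈ X.map a.toMonoidHom ↔ x' * z * x'⁻¹ ∈ X :=
      ⟨fun ⟨w, hw, e⟩ => by
        have : a w = a (x' * z * x'⁻¹) := by rw [map_mul, map_mul, map_inv]; exact e
        exact a.injective this ▸ hw, fun hz => ⟨_, hz, by simp⟩⟩
    rw [e1, e2]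
    exact Subgroup.mem_normalizer_iff.mp hx' z

theorem centralizer_map_equiv (a : S ≃* S') (X : Subgroup S) :
    centralizer ((X.map a.toMonoidHom : Subgroup S') : Set S') = (centralizer (X : Set S)).map a.toMonoidHom := by
  ext y
  obtain ⟨x, rfl⟩ := a.surjective y
  rw [Subgroup.mem_centralizer_iff]
  constructor
  · intro h
    refine ⟨x, ?_, rfl⟩
    refine Subgroup.mem_centralizer_iff.mpr fun z hz => ?_
    have := h (a z) ⟨z, hz, rfl⟩
    rw [← map_mul, ← map_mul] at this
    exact a.injective this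
  · rintro ⟨x', hx', e⟩ _ ⟨z, hz, rfl⟩
    obtain rfl : x' = x := a.injective e
    have := Subgroup.mem_centralizer_iff.mp hx' z hz
    have := congrArg a this
    simpa using this

theorem Stab.normalizer {A : Subgroup (MulAut S)} {X : Subgroup S} (h : Stab A X) :
    Stab A (normalizer (X : Set S)) := by
  intro a ha
  obtain ⟨s, hs⟩ := h a ha
  refine ⟨s, ?_⟩
  rw [← normalizer_map_equiv, ← normalizer_map_equiv, hs]

theorem Stab.centralizer {A : Subgroup (MulAut S)} {X : Subgroup S} (h : Stab A X) :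
    Stab A (centralizer (X : Set S)) := by
  intro a ha
  obtain ⟨s, hs⟩ := h a ha
  refine ⟨s, ?_⟩
  rw [← centralizer_map_equiv, ← centralizer_map_equiv, hs]

/-- A characteristic construction preserves `Stab`. -/
theorem Stab.of_natural {A : Subgroup (MulAut S)} {X : Subgroup S} (h : Stab A X)
    (f : Subgroup S → Subgroup S) (hf : ∀ (a : S ≃* S) (Y : Subgroup S), f (Y.map a.toMonoidHom) =
      (f Y).map a.toMonoidHom) : Stab A (f X) := by
  intro a ha
  obtain ⟨s, hs⟩ := h a ha
  refine ⟨s, ?_⟩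
  rw [← hf, ← hf, hs]

theorem stab_sylow [Finite S] (A : Subgroup (MulAut S)) {p : ℕ} [Fact p.Prime] (P : Sylow p S) :
    Stab A (P : Subgroup S) := by
  intro a _
  have hP : IsPGroup p ((P : Subgroup S).map (a : S ≃* S).toMonoidHom) := P.isPGroup'.map _
  have hcard : Nat.card ((P : Subgroup S).map (a : S ≃* S).toMonoidHom) = Nat.card P :=
    Nat.card_congr ((P : Subgroup S).equivMapOfInjective _ (a : S ≃* S).injective).symm.toEquiv
  obtain ⟨Q, hQ⟩ := hP.exists_le_sylow
  have hQc : Nat.card Q = Nat.card P := by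
    rw [Q.card_eq_multiplicity, P.card_eq_multiplicity]
  have hQe : (Q : Subgroup S) = (P : Subgroup S).map (a : S ≃* S).toMonoidHom := by
    refine (Subgroup.eq_of_le_of_card_ge hQ ?_).symm
    rw [hcard]; exact hQc.le
  obtain ⟨g, hg⟩ := MulAction.exists_smul_eq S P Q
  refine ⟨g, ?_⟩
  rw [← hQe, ← hg]
  rfl

/-- Conjugates of a subgroup with `Stab`. -/
theorem Stab.conj {A : Subgroup (MulAut S)} {X : Subgroup S} (h : Stab A X) (t : S) :
    Stab A (X.map (MulAut.conj t).toMonoidHom) := by
  intro a ha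
  obtain ⟨s, hs⟩ := h a ha
  refine ⟨a t * s * t⁻¹, ?_⟩
  have e1 : (X.map (MulAut.conj t).toMonoidHom).map (a : S ≃* S).toMonoidHom =
      (X.map (a : S ≃* S).toMonoidHom).map (MulAut.conj (a t)).toMonoidHom := by
    rw [Subgroup.map_map, Subgroup.map_map]
    congr 1
    ext y
    simp
  rw [e1, hs, map_conj_map_conj, map_conj_map_conj]
  congr 2
  group

/-- If all members of `A` are inner every subgroup has `Stab`. -/
theorem stab_of_inner {A : Subgroup (MulAut S)} (hA : ∀ a ∈ A, ∃ s, a = MulAut.conj s) (X : Subgroup S) :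
    Stab A X := by
  intro a ha
  obtain ⟨s, rfl⟩ := hA a ha
  exact ⟨s, rfl⟩

/-- A property of elements which determines a class. -/
theorem stab_zpowers_of_class {A : Subgroup (MulAut S)} {x : S} (h : ∀ a ∈ A, IsConj x (a x)) :
    Stab A (zpowers x) := by
  intro a ha
  obtain ⟨s, hs⟩ := isConj_iff.mp (h a ha)
  refine ⟨s, ?_⟩
  rw [MonoidHom.map_zpowers, MonoidHom.map_zpowers]
  congr 1
  exact hs.symm

/-! ### Transport -/

theorem HallSys.congr (e : S ≃* S') {A : Subgroup (MulAut S)} {n : ℕ} (h : HallSys S A n) :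
    HallSys S' (A.map (MulAut.congr e).toMonoidHom) n := by
  have hconj : ∀ s : S, MulAut.congr e (MulAut.conj s) = MulAut.conj (e s) := by
    intro s
    ext y
    simp [MulAut.congr]
  have hrange : (MulAut.conj : S →* MulAut S).range.map (MulAut.congr e).toMonoidHom =
      (MulAut.conj : S' →* MulAut S').range := by
    ext b
    constructor
    · rintro ⟨_, ⟨s, rfl⟩, rfl⟩
      exact ⟨e s, (hconj s).symm⟩
    · rintro ⟨s', rfl⟩
      refine ⟨MulAut.conj (e.symm s'), ⟨_, rfl⟩, ?_⟩
      have := hconj (e.symm s')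
      rw [e.apply_symm_apply] at this
      exact this
  refine ⟨?_, ?_, ?_⟩
  · intro s'
    refine ⟨MulAut.conj (e.symm s'), h.inn _, ?_⟩
    have := hconj (e.symm s')
    rw [e.apply_symm_apply] at this
    exact this
  · rw [← hrange, Subgroup.relIndex_map_map_of_injective _ _ (MulAut.congr e).injective]
    exact h.idx
  · intro X' h1 h2 h3
    have hXX : X' = (X'.map e.symm.toMonoidHom).map e.toMonoidHom := by
      rw [Subgroup.map_map]
      have : e.toMonoidHom.comp e.symm.toMonoidHom = MonoidHom.id S' := by ext y; simp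
      rw [this, Subgroup.map_id]
    set X := X'.map e.symm.toMonoidHom with hX
    -- naturality of maps
    have hnat : ∀ (a : MulAut S) (Y : Subgroup S), (Y.map e.toMonoidHom).map
        ((MulAut.congr e a : MulAut S') : S' ≃* S').toMonoidHom = (Y.map (a : S ≃* S).toMonoidHom).map e.toMonoidHom := by
      intro a Y
      rw [Subgroup.map_map, Subgroup.map_map]
      congr 1
      ext y
      simp [MulAut.congr]
    have hmi : Function.Injective (Subgroup.map e.toMonoidHom) := Subgroup.map_injective e.injective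
    have hsX : Stab A X := by
      intro a ha
      obtain ⟨s', hs'⟩ := h3 (MulAut.congr e a) ⟨a, ha, rfl⟩
      refine ⟨e.symm s', ?_⟩
      apply hmi
      rw [← hnat, ← hnat, ← hXX, hs', hconj, e.apply_symm_apply]
    obtain ⟨M, hM1, hM2, hM3, hM4, hM5⟩ := h.hall X (by
        intro hb
        apply h1
        rw [hXX, hb, Subgroup.map_bot]) (by
        intro hb
        apply h2
        rw [hXX, hb, Subgroup.map_top_of_surjective _ e.surjective]) hsX
    have hidx : (M.map e.toMonoidHom).index = M.index := by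
      rw [Subgroup.index_map_of_bijective e.bijective]
    have hcard : Nat.card (M.map e.toMonoidHom) = Nat.card M :=
      Nat.card_congr (M.equivMapOfInjective _ e.injective).symm.toEquiv
    refine ⟨M.map e.toMonoidHom, ?_, ?_, ?_, ?_, ?_⟩
    · rw [hXX]; exact Subgroup.map_mono hM1
    · intro hb
      apply hM2
      apply hmi
      rw [hb, Subgroup.map_top_of_surjective _ e.surjective]
    · rintro _ ⟨a, ha, rfl⟩
      obtain ⟨s, hs⟩ := hM3 a ha
      refine ⟨e s, ?_⟩
      change (M.map e.toMonoidHom).map ((MulAut.congr e a : MulAut S') : S' ≃* S').toMonoidHom = _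
      rw [hnat, hs, ← hnat, hconj]
    · rw [hidx, hcard]; exact hM4
    · rw [hidx]; exact hM5

theorem NoHall.congr (e : S ≃* S') (h : NoHall S) : NoHall S' := by
  intro A n hA
  exact h _ n (hA.congr e.symm)

/-! ### Sylow normalisers -/

/-- An overgroup of a Sylow normaliser has index `≡ 1` modulo `r`. -/
theorem index_modEq_one [Finite S] {r : ℕ} [Fact r.Prime] (P : Sylow r S) {M : Subgroup S}
    (hM : normalizer ((P : Subgroup S) : Set S) ≤ M) : M.index ≡ 1 [MOD r] := by
  have hPM : (P : Subgroup S) ≤ M := le_normalizer.trans hM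
  have h1 : Nat.card (Sylow r S) ≡ 1 [MOD r] := card_sylow_modEq_one r S
  have h2 : Nat.card (Sylow r M) ≡ 1 [MOD r] := card_sylow_modEq_one r M
  have h3 : Nat.card (Sylow r S) = (normalizer ((P : Subgroup S) : Set S)).index := P.card_eq_index_normalizer
  have h4 : Nat.card (Sylow r M) = (normalizer (((P.subtype hPM : Sylow r M) : Subgroup M) : Set M)).index :=
    (P.subtype hPM).card_eq_index_normalizer
  have h5 : normalizer (((P.subtype hPM : Sylow r M) : Subgroup M) : Set M) =
      (normalizer ((P : Subgroup S) : Set S)).subgroupOf M := by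
    rw [Sylow.coe_subtype]
    exact Subgroup.subgroupOf_normalizer_eq hPM |>.symm
  rw [h5] at h4
  have h6 : (normalizer ((P : Subgroup S) : Set S)).relIndex M * M.index =
      (normalizer ((P : Subgroup S) : Set S)).index := Subgroup.relIndex_mul_index hM
  rw [h3, ← h6] at h1
  have h7 : (normalizer ((P : Subgroup S) : Set S)).relIndex M ≡ 1 [MOD r] := by
    rw [Subgroup.relIndex, ← h4]; exact h2
  have h8 := (h7.mul_right M.index).symm.trans h1
  rwa [one_mul] at h8

theorem normalizer_ne_top [Finite S] [IsSimpleGroup S] (hna : ¬ IsMulCommutative S) {X : Subgroup S}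
    (h1 : X ≠ ⊥) (h2 : X ≠ ⊤) : normalizer (X : Set S) ≠ ⊤ := by
  intro h
  have : X.Normal := normalizer_eq_top_iff.mp h
  rcases this.eq_bot_or_eq_top with h | h
  · exact h1 h
  · exact h2 h

theorem sylow_ne_top [Finite S] [IsSimpleGroup S] (hna : ¬ IsMulCommutative S) {r : ℕ} [Fact r.Prime]
    (P : Sylow r S) : (P : Subgroup S) ≠ ⊤ := by
  intro h
  have h1 : IsPGroup r (⊤ : Subgroup S) := h ▸ P.isPGroup'
  have h2 : IsPGroup r S := h1.of_equiv Subgroup.topEquiv
  have h3 : Nontrivial (center S) := h2.center_nontrivial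
  have h4 : center S ≠ ⊥ := (Subgroup.nontrivial_iff_ne_bot _).mp h3
  rcases (inferInstance : (center S).Normal).eq_bot_or_eq_top with h5 | h5
  · exact h4 h5
  · apply hna
    rw [isMulCommutative_iff]
    intro a b
    have : a ∈ center S := h5 ▸ Subgroup.mem_top a
    exact ((Subgroup.mem_center_iff.mp this) b).symm

theorem sylow_ne_bot [Finite S] {r : ℕ} [hr : Fact r.Prime] (hd : r ∣ Nat.card S)
    (P : Sylow r S) : (P : Subgroup S) ≠ ⊥ := by
  intro h
  have := P.dvd_card_of_dvd_card hd
  rw [h, Subgroup.card_bot] at this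
  exact hr.out.one_lt.ne' (Nat.dvd_one.mp this)

/-- A proper subgroup of a simple group has `|S| ∣ index !`. -/
theorem card_dvd_factorial [Finite S] [IsSimpleGroup S] {M : Subgroup S} (hM : M ≠ ⊤) :
    Nat.card S ∣ (M.index).factorial := by
  have hcore : M.normalCore = ⊥ := by
    rcases (inferInstance : M.normalCore.Normal).eq_bot_or_eq_top with h | h
    · exact h
    · exact absurd (top_le_iff.mp (h ▸ M.normalCore_le)) hM
  have hfin : Finite (S ⧸ M) := inferInstance
  have hinj : Function.Injective (MulAction.toPermHom S (S ⧸ M)) := by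
    rw [← MonoidHom.ker_eq_bot_iff, ← Subgroup.normalCore_eq_ker, hcore]
  have h := Subgroup.card_dvd_of_injective (MulAction.toPermHom S (S ⧸ M)) hinj
  rw [Nat.card_perm] at h
  exact h

/-- **The Hall overgroup of a Sylow normaliser.** -/
theorem HallSys.sylow [Finite S] [IsSimpleGroup S] (hna : ¬ IsMulCommutative S) {A : Subgroup (MulAut S)} {n : ℕ}
    (h : HallSys S A n) {r : ℕ} [hr : Fact r.Prime] (hd : r ∣ Nat.card S) (P : Sylow r S) :
    ∃ M : Subgroup S, normalizer ((P : Subgroup S) : Set S) ≤ M ∧ M ≠ ⊤ ∧ Stab A M ∧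
      (Nat.card M).Coprime M.index ∧ M.index.Coprime n ∧ M.index ≡ 1 [MOD r] := by
  have h1 : normalizer ((P : Subgroup S) : Set S) ≠ ⊥ := by
    intro hb
    exact sylow_ne_bot hd P (le_bot_iff.mp (hb ▸ (le_normalizer : (P : Subgroup S) ≤ _)))
  have h2 : normalizer ((P : Subgroup S) : Set S) ≠ ⊤ :=
    normalizer_ne_top hna (sylow_ne_bot hd P) (sylow_ne_top hna P)
  obtain ⟨M, hM1, hM2, hM3, hM4, hM5⟩ := h.hall _ h1 h2 (stab_sylow A P).normalizer
  exact ⟨M, hM1, hM2, hM3, hM4, hM5, index_modEq_one P hM1⟩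

/-- A Hall overgroup as large as possible: no `Stab` subgroup strictly between `M` and `S`. -/
theorem HallSys.exists_max [Finite S] {A : Subgroup (MulAut S)} {n : ℕ} (h : HallSys S A n) {X : Subgroup S}
    (h1 : X ≠ ⊥) (h2 : X ≠ ⊤) (h3 : Stab A X) : ∃ M : Subgroup S, X ≤ M ∧ M ≠ ⊤ ∧ Stab A M ∧
    (Nat.card M).Coprime M.index ∧ M.index.Coprime n ∧ ∀ Y : Subgroup S, M ≤ Y → Y ≠ ⊤ → Stab A Y → Y = M := by
  have hfin : ({M : Subgroup S | X ≤ M ∧ M ≠ ⊤ ∧ Stab A M}).Finite := Set.toFinite _
  obtain ⟨M, hM⟩ := hfin.exists_maximal ⟨X, le_rfl, h2, h3⟩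
  obtain ⟨⟨hM1, hM2, hM3⟩, hM4⟩ := hM
  have hMb : M ≠ ⊥ := fun hb => h1 (le_bot_iff.mp (hb ▸ hM1))
  obtain ⟨N, hN1, hN2, hN3, hN4, hN5⟩ := h.hall M hMb hM2 hM3
  have hNM : N = M := le_antisymm (hM4 ⟨hM1.trans hN1, hN2, hN3⟩ hN1) hN1
  subst hNM
  exact ⟨N, hM1, hM2, hM3, hN4, hN5, fun Y hY hYt hYs =>
    le_antisymm (hM4 ⟨hM1.trans hY, hYt, hYs⟩ hY) hY⟩

end Cfsg.Agent.H554
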