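import Mathlib
import Cfsg.Agent.H554.RG
import Cfsg.Agent.Nodes.Coroot

/-!
# The index of a parabolic subgroup (helper554)

* `index_PJ` : `|S : P_J| = ∑_{w ∈ W^J} |⟨X x : x > 0, w⁻¹ x < 0⟩|`;
* `index_orth` : for a dominant root `r`, `|S : P_{orth r}| = ∑_{β ∈ W r} ∏_{x > 0, (x, β) < 0} |X x|`;
* `dvd_index_orth` : if `|X x|² = 1` and `|X r| = -1` modulo `l` then `l` divides this index.
-/

set_option autoImplicit false
set_option linter.unusedSectionVars false

namespace Cfsg.Agent.H554.RG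

open CoxeterSystem Cfsg.Agent.ChevalleyStructure.CoxeterGeom Cfsg.Agent.Tits.Roots Cfsg.Agent.Tits.Core
  Cfsg.Agent.Tits.Exchange Cfsg.Agent.Nodes.Reps Cfsg.Agent.Nodes.BNOf Cfsg.Agent.Nodes.StabComb
  Cfsg.Agent.Nodes.Bruhat Cfsg.Agent.Nodes.OppDec Cfsg.Agent.Nodes.LeviDec Cfsg.Agent.Nodes.NormalForm
  Cfsg.Agent.Nodes.CardSup Cfsg.Agent.Nodes.Unique Cfsg.Agent.Nodes.Coroot Cfsg.Agent.Nodes.SubComb
  Cfsg.Agent.Nodes.NormX

variable {I W S : Type*} [Fintype I] [DecidableEq I] [Group W] [Group S] {M : CoxeterMatrix I}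
  {cs : CoxeterSystem M W} {A : I → I → ℤ} {h : IsCartan M A} {p : ℕ} {T : Subgroup S} {n : I → S}
  {X : (I → ℤ) → Subgroup S}

theorem eq_sum_sr (x : I → ℤ) : x = ∑ k, x k • (sr k : I → ℤ) := by
  ext j
  rw [Finset.sum_apply]
  simp only [Pi.smul_apply, smul_eq_mul, sr, Pi.single_apply]
  simp

theorem nonneg_of_isMinR {J : Set I} {v : W} (hv : IsMinR cs J v) {x : I → ℤ} (hx : x ∈ PosJ cs h J) :
    0 ≤ rep cs h v x := by
  rw [isMinR_iff] at hv
  have h1 : rep cs h v x = ∑ k, x k • rep cs h v (sr k) := by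
    conv_lhs => rw [eq_sum_sr x]
    rw [map_sum]
    refine Finset.sum_congr rfl fun k _ => ?_
    rw [map_smul]
  rw [h1]
  refine Finset.sum_nonneg fun k _ => ?_
  by_cases hk : k ∈ J
  · exact smul_nonneg (hx.2.1 k) ((lt_iff' cs h v k).mp (hv k hk))
  · rw [hx.2.2 k hk, zero_smul]

/-- the roots made negative by `w⁻¹`, for `w` minimal in `w W_J` -/
theorem neg_mem_NotJ {J : Set I} {w : W} (hw : IsMinR cs J w) {x : I → ℤ} (hx : x ∈ NW cs h w⁻¹) :
    -(rep cs h w⁻¹ x) ∈ NotJ cs h J := by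
  obtain ⟨h1, h2, h3⟩ := hx
  have h4 : IsRoot cs h (-(rep cs h w⁻¹ x)) := (h1.act _).neg
  have h5 : 0 ≤ -(rep cs h w⁻¹ x) := neg_nonneg.mpr h3
  rcases mem_PosJ_or_NotJ J h4 h5 with h6 | h6
  · exfalso
    have h7 := nonneg_of_isMinR hw h6
    rw [map_neg, rep_apply_inv] at h7
    exact h1.ne_zero (le_antisymm (neg_nonneg.mp h7) h2)
  · exact h6

variable (R : RGD cs h p T n X)

include R

/-- **The index of a parabolic subgroup.** -/
theorem index_PJ [Finite W] [Finite S] [Fintype W] (hG : GG cs h T X = ⊤) (J : Set I)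
    [Fintype {w : W // IsMinR cs J w}] :
    (PJ cs h T X J).index = ∑ w : {w : W // IsMinR cs J w}, Nat.card (RGD.Sup X (NW cs h (w : W)⁻¹)) := by
  choose g hg using exists_rp cs R.nsys
  let f : (Σ w : {w : W // IsMinR cs J w}, ↥(RGD.Sup X (NW cs h (w : W)⁻¹))) → S ⧸ PJ cs h T X J :=
    fun q => QuotientGroup.mk ((q.2 : S) * g q.1)
  have hbij : Function.Bijective f := by
    constructor
    · rintro ⟨⟨w, hw⟩, u, hu⟩ ⟨⟨w', hw'⟩, u', hu'⟩ he
      have h1 : (u * g w)⁻¹ * (u' * g w') ∈ PJ cs h T X J := QuotientGroup.eq.mp he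
      have hUB : ∀ {w : W} {u : S}, u ∈ RGD.Sup X (NW cs h w⁻¹) → u ∈ RGD.B cs h T X := by
        intro w u hu
        have hsub : NW cs h w⁻¹ ⊆ RGD.Pos cs h := fun x hx => ⟨hx.1, hx.2.1⟩
        exact RGD.U_le_B (RGD.Sup_mono hsub hu)
      -- the cells
      obtain ⟨v, hv, hc⟩ := (mem_PJ_iff_cell R).mp h1
      have h2 : Cell R.nsys cs h X (w * v) (g w * ((u * g w)⁻¹ * (u' * g w'))) :=
        Cell.mul_of_length R (hw v hv) (cell_of_rp (hg w)) hc
      have h3 : Cell R.nsys cs h X w' (g w * ((u * g w)⁻¹ * (u' * g w'))) := by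
        have e : g w * ((u * g w)⁻¹ * (u' * g w')) = (u⁻¹ * u') * g w' := by group
        rw [e]
        exact (cell_of_rp (hg w')).mul_left (mul_mem (inv_mem (hUB hu)) (hUB hu'))
      have h4 : w * v = w' := Cell.unique R h2 h3
      have h5 : w' = w := IsMinR.unique cs hw hw' hv h4.symm
      subst h5
      have h6 : (g w')⁻¹ * (u⁻¹ * u') * (g w')⁻¹⁻¹ ∈ PJ cs h T X J := by
        have e : (g w')⁻¹ * (u⁻¹ * u') * (g w')⁻¹⁻¹ = (u * g w')⁻¹ * (u' * g w') := by group
        rw [e]; exact h1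
      have h7 : (g w')⁻¹ * (u⁻¹ * u') * (g w')⁻¹⁻¹ ∈ VNJ cs h X J := by
        refine conj_mem_Sup R (hg w').inv (S := NW cs h w'⁻¹) (fun x hx => hx.1) ?_ (mul_mem (inv_mem hu) hu')
        intro x hx
        exact neg_mem_NotJ hw hx
      have h8 := eq_one_of_mem_VNJ_of_mem_PJ R h7 h6
      have h9 : u = u' := by
        have e : u⁻¹ * u' = g w' * ((g w')⁻¹ * (u⁻¹ * u') * (g w')⁻¹⁻¹) * (g w')⁻¹ := by group
        rw [h8, mul_one, mul_inv_cancel, inv_mul_eq_one] at e
        exact e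
      subst h9
      rfl
    · intro q
      induction q using QuotientGroup.induction_on with
      | _ x =>
        have hx : x ∈ GG cs h T X := hG ▸ Subgroup.mem_top x
        obtain ⟨w₀, hc⟩ := (mem_GG R).mp hx
        obtain ⟨w, hw, v, hv, hwv⟩ := exists_isMinR cs J w₀
        obtain ⟨b₁, hb₁, k, hk, b₂, hb₂, e⟩ := hc
        obtain ⟨t, ht, a, ha, hb⟩ := R.mem_B.mp (inv_mem hb₁)
        obtain ⟨b, hb', c, hc', hbc⟩ := exists_PW_NW R w⁻¹ ha
        -- `b₁ = a⁻¹ t⁻¹ = c⁻¹ b⁻¹ t⁻¹`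
        refine ⟨⟨⟨w, hw⟩, c⁻¹, inv_mem hc'⟩, ?_⟩
        apply QuotientGroup.eq.mpr
        change (c⁻¹ * g w)⁻¹ * x ∈ PJ cs h T X J
        have e1 : b₁ = c⁻¹ * b⁻¹ * t⁻¹ := by
          rw [← inv_inv b₁, hb, hbc]; group
        have e2 : (c⁻¹ * g w)⁻¹ * x =
            ((g w)⁻¹ * b⁻¹ * (g w)⁻¹⁻¹) * ((g w)⁻¹ * t⁻¹ * (g w)⁻¹⁻¹) * ((g w)⁻¹ * k) * b₂ := by
          rw [e, e1]; group
        rw [e2]
        have h1 : (g w)⁻¹ * b⁻¹ * (g w)⁻¹⁻¹ ∈ RGD.Sup X (RGD.Pos cs h) := by
          refine conj_mem_Sup R (hg w).inv (S := PW cs h w⁻¹) (fun x hx => hx.1) ?_ (inv_mem hb')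
          intro x hx
          exact ⟨hx.1.act _, hx.2.2⟩
        have h2 : (g w)⁻¹ * t⁻¹ * (g w)⁻¹⁻¹ ∈ T :=
          (Subgroup.mem_normalizer_iff.mp (hg w).inv.mem_normalizer t⁻¹).mp (inv_mem ht)
        have h3 : (g w)⁻¹ * k ∈ PJ cs h T X J := by
          have h4 : Rp cs R.nsys v ((g w)⁻¹ * k) := by
            have := (hg w).inv.mul hk
            have e3 : w⁻¹ * w₀ = v := by rw [hwv]; group
            rwa [e3] at this
          exact (cell_mem_PJ_iff R (cell_of_rp h4)).mpr hv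
        exact mul_mem (mul_mem (mul_mem (B_le_PJ (RGD.U_le_B h1)) (B_le_PJ (RGD.T_le_B h2))) h3) (B_le_PJ hb₂)
  have h1 := Nat.card_congr (Equiv.ofBijective f hbij)
  rw [Subgroup.index, ← h1, Nat.card_sigma]

omit R in
/-- the positive roots -/
noncomputable def posF (cs : CoxeterSystem M W) (h : IsCartan M A) [Finite W] : Finset (I → ℤ) :=
  (finite_pos (cs := cs) (h := h)).toFinset

omit R in
theorem mem_posF [Finite W] {x : I → ℤ} : x ∈ posF cs h ↔ IsRoot cs h x ∧ 0 ≤ x := by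
  rw [posF, Set.Finite.mem_toFinset]; rfl

omit R in
/-- the product of the orders of the positive root groups with `(x, β) < 0` -/
noncomputable def Fm (cs : CoxeterSystem M W) (h : IsCartan M A) (X : (I → ℤ) → Subgroup S) [Fintype W]
    (β : I → ℤ) : ℕ :=
  ∏ x ∈ (posF cs h).filter (fun x => form cs h x β < 0), Nat.card (X x)

theorem card_Sup_NW [Finite S] [Fintype W] {r : I → ℤ} (hd : Dom A r) {w : W}
    (hw : IsMinR cs (orth cs h r) w) :
    Nat.card (RGD.Sup X (NW cs h w⁻¹)) = Fm cs h X (rep cs h w r) := by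
  have hset : (((posF cs h).filter (fun x => form cs h x (rep cs h w r) < 0) : Finset (I → ℤ)) : Set (I → ℤ)) =
      NW cs h w⁻¹ := by
    ext x
    rw [Finset.mem_coe, Finset.mem_filter, mem_posF]
    have e : form cs h x (rep cs h w r) = form cs h (rep cs h w⁻¹ x) r := by
      rw [form_rep_left, inv_inv]
    rw [e]
    constructor
    · rintro ⟨⟨h1, h2⟩, h3⟩
      refine ⟨h1, h2, ?_⟩
      rcases (h1.act w⁻¹).pos_or_neg with h4 | h4
      · exfalso
        have h5 := form_nonneg_of_dom cs h hd h4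
        rw [form_comm] at h5
        omega
      · exact h4
    · intro hx
      refine ⟨⟨hx.1, hx.2.1⟩, ?_⟩
      have h1 := form_pos_of_NotJ hd (neg_mem_NotJ hw hx)
      rw [form_neg_right, form_comm] at h1
      omega
  rw [← hset, card_sup R]
  · rfl
  · rw [hset]
    exact fun x hx => ⟨hx.1, hx.2.1⟩
  · rw [hset]
    intro x hx y hy z hz
    refine ⟨hz.1, RGD.nonneg_of_btwn hx.2.1 hy.2.1 hz, RGD.nonpos_of_btwn hx.2.2 hy.2.2 (hz.act w⁻¹)⟩

/-- **The index of the stabiliser of a dominant root.** -/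
theorem index_orth [Finite S] [Fintype W] [DecidableEq (I → ℤ)] (hG : GG cs h T X = ⊤) {r : I → ℤ}
    (hd : Dom A r) : (PJ cs h T X (orth cs h r)).index =
      ∑ β ∈ Finset.univ.image (fun w : W => rep cs h w r), Fm cs h X β := by
  classical
  rw [index_PJ R hG (orth cs h r)]
  have h1 : ∀ w : {w : W // IsMinR cs (orth cs h r) w}, Nat.card (RGD.Sup X (NW cs h (w : W)⁻¹)) =
      Fm cs h X (rep cs h (w : W) r) := fun w => card_Sup_NW R hd w.2
  simp only [h1]
  refine Finset.sum_bij (fun w _ => rep cs h (w : W) r) ?_ ?_ ?_ ?_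
  · intro w _
    exact Finset.mem_image_of_mem _ (Finset.mem_univ _)
  · rintro ⟨w, hw⟩ _ ⟨w', hw'⟩ _ he
    have h2 : rep cs h (w⁻¹ * w') r = r := by
      rw [rep_mul_apply, ← he, rep_inv_apply]
    have h3 : w⁻¹ * w' ∈ WJ cs (orth cs h r) := mem_WJ_of_rep hd h2
    have h4 : w' = w * (w⁻¹ * w') := by group
    exact Subtype.ext (IsMinR.unique cs hw hw' h3 h4).symm
  · intro β hβ
    obtain ⟨w, -, rfl⟩ := Finset.mem_image.mp hβ
    obtain ⟨v, hv, u, hu, rfl⟩ := exists_isMinR cs (orth cs h r) w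
    refine ⟨⟨v, hv⟩, Finset.mem_univ _, ?_⟩
    rw [rep_mul_apply, rep_of_mem_WJ_orth hu]
  · intro w _
    rfl

/-- the order of the root groups is invariant -/
theorem card_X_neg [Finite W] {x : I → ℤ} (hx : IsRoot cs h x) : Nat.card (X (-x)) = Nat.card (X x) := by
  obtain ⟨w, i, rfl⟩ := hx
  have h1 : -rep cs h w (sr i) = rep cs h (w * cs.simple i) (sr i) := by
    rw [rep_mul_apply, rep_simple_sr, map_neg]
  rw [h1, card_X_rep R _ (isRoot_sr cs h i), card_X_rep R _ (isRoot_sr cs h i)]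

/-- the product over the positive roots not orthogonal to `β` -/
theorem prod_not_orth [Finite S] [Fintype W] {l : ℕ} (hsq : ∀ x, IsRoot cs h x → ((Nat.card (X x) : ℕ) : ZMod l) ^ 2 = 1)
    {β : I → ℤ} (hβ : IsRoot cs h β) :
    ∏ x ∈ (posF cs h).filter (fun x => form cs h x β ≠ 0), ((Nat.card (X x) : ℕ) : ZMod l) =
      ((Nat.card (X β) : ℕ) : ZMod l) := by
  classical
  -- the positive one of `β`, `-β`
  have hβ' : ∃ γ ∈ posF cs h, (γ = β ∨ γ = -β) := by
    rcases hβ.pos_or_neg with h1 | h1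
    · exact ⟨β, mem_posF.mpr ⟨hβ, h1⟩, Or.inl rfl⟩
    · exact ⟨-β, mem_posF.mpr ⟨hβ.neg, neg_nonneg.mpr h1⟩, Or.inr rfl⟩
  obtain ⟨γ, hγ, hγβ⟩ := hβ'
  have hγr : IsRoot cs h γ := (mem_posF.mp hγ).1
  have hγ0 : 0 ≤ γ := (mem_posF.mp hγ).2
  have hcardγ : Nat.card (X γ) = Nat.card (X β) := by
    rcases hγβ with rfl | rfl
    · rfl
    · exact card_X_neg R hβ
  have hform : ∀ x, form cs h x β ≠ 0 ↔ form cs h x γ ≠ 0 := by
    intro x
    rcases hγβ with rfl | rfl
    · exact Iff.rfl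
    · rw [form_neg_right, neg_ne_zero]
  simp only [hform]
  rw [← hcardγ]
  -- the reflection in `γ`
  have href : ∃ t : W, ∀ x, rep cs h t x = x - cpr cs h x γ • γ := by
    obtain ⟨w, i, e⟩ := hγr
    refine ⟨rfl' cs w i, fun x => ?_⟩
    rw [rep_rfl'_eq, ← e]
  obtain ⟨t, ht⟩ := href
  have htγ : rep cs h t γ = -γ := by
    rw [ht, cpr_self cs h hγr, two_smul]; abel
  have htt : ∀ x, rep cs h t (rep cs h t x) = x := by
    intro x
    rw [ht x, map_sub, map_smul, htγ, ht x, smul_neg]; abel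
  have htf : ∀ x, form cs h (rep cs h t x) γ = -form cs h x γ := by
    intro x
    have h1 := form_rep cs h t x γ
    rw [htγ, form_neg_right] at h1
    rw [← h1, neg_neg]
  set F : Finset (I → ℤ) := (posF cs h).filter (fun x => form cs h x γ ≠ 0) with hF
  have hγF : γ ∈ F := Finset.mem_filter.mpr ⟨hγ, (form_pos cs h hγr.ne_zero).ne'⟩
  rw [← Finset.mul_prod_erase F _ hγF]
  have hone : ∏ x ∈ F.erase γ, ((Nat.card (X x) : ℕ) : ZMod l) = 1 := by
    let ι : (I → ℤ) → (I → ℤ) := fun x => if 0 ≤ rep cs h t x then rep cs h t x else -rep cs h t x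
    have hιcard : ∀ x, IsRoot cs h x → Nat.card (X (ι x)) = Nat.card (X x) := by
      intro x hx
      by_cases h0 : 0 ≤ rep cs h t x
      · simp only [ι, h0, if_true]
        exact card_X_rep R _ hx
      · simp only [ι, h0, if_false]
        rw [card_X_neg R (hx.act _), card_X_rep R _ hx]
    have hιne : ∀ x ∈ F.erase γ, ι x ≠ x := by
      intro x hx he
      have hxF := Finset.mem_of_mem_erase hx
      have hxγ : x ≠ γ := Finset.ne_of_mem_erase hx
      obtain ⟨hxp, hxf⟩ := Finset.mem_filter.mp hxF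
      obtain ⟨hxr, hx0⟩ := mem_posF.mp hxp
      by_cases h0 : 0 ≤ rep cs h t x
      · simp only [ι, h0, if_true] at he
        have h1 := htf x
        rw [he] at h1
        omega
      · simp only [ι, h0, if_false] at he
        -- `t x = -x` : `2 x = ⟨x, γ⟩ γ`
        have h1 : (2 : ℤ) • x = cpr cs h x γ • γ := by
          have h2 := ht x
          rw [two_smul]
          have h3 : rep cs h t x = -x := by rw [eq_neg_iff_add_eq_zero, ← eq_neg_iff_add_eq_zero.mp he.symm]; abel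
          rw [h3] at h2
          have h5 : -x + cpr cs h x γ • γ = x := by rw [h2]; abel
          calc x + x = x + (-x + cpr cs h x γ • γ) := by rw [h5]
            _ = cpr cs h x γ • γ := by abel
        have h2 : 0 < cpr cs h x γ := by
          by_contra hcon
          push Not at hcon
          apply hxr.ne_zero
          refine le_antisymm ?_ hx0
          intro k
          have h3 := congrFun h1 k
          rw [Pi.smul_apply, Pi.smul_apply, smul_eq_mul, smul_eq_mul] at h3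
          have h4 := mul_nonpos_of_nonpos_of_nonneg hcon (hγ0 k)
          simp only [Pi.zero_apply]
          omega
        exact hxγ (eq_of_ray hxr hγr two_pos h2 h1)
    refine Finset.prod_involution (fun x _ => ι x) ?_ ?_ ?_ ?_
    · intro x hx
      have hxr : IsRoot cs h x := (mem_posF.mp (Finset.mem_filter.mp (Finset.mem_of_mem_erase hx)).1).1
      rw [hιcard x hxr, ← sq]
      exact hsq x hxr
    · intro x hx _
      exact hιne x hx
    · intro x hx
      have hxF := Finset.mem_of_mem_erase hx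
      have hxγ : x ≠ γ := Finset.ne_of_mem_erase hx
      obtain ⟨hxp, hxf⟩ := Finset.mem_filter.mp hxF
      obtain ⟨hxr, hx0⟩ := mem_posF.mp hxp
      have hιr : IsRoot cs h (ι x) ∧ 0 ≤ ι x := by
        by_cases h0 : 0 ≤ rep cs h t x
        · rw [show ι x = rep cs h t x from if_pos h0]
          exact ⟨hxr.act _, h0⟩
        · rw [show ι x = -rep cs h t x from if_neg h0]
          exact ⟨(hxr.act _).neg, neg_nonneg.mpr ((hxr.act t).pos_or_neg.resolve_left h0)⟩
      have hιf : form cs h (ι x) γ ≠ 0 := by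
        by_cases h0 : 0 ≤ rep cs h t x
        · simp only [ι, h0, if_true]
          rw [htf]
          exact neg_ne_zero.mpr hxf
        · simp only [ι, h0, if_false]
          rw [form_neg_left, htf, neg_neg]
          exact hxf
      refine Finset.mem_erase.mpr ⟨?_, Finset.mem_filter.mpr ⟨mem_posF.mpr hιr, hιf⟩⟩
      intro he
      by_cases h0 : 0 ≤ rep cs h t x
      · simp only [ι, h0, if_true] at he
        have h1 := htt x
        rw [he, htγ] at h1
        have h2 : (0 : I → ℤ) ≤ -γ := h1 ▸ hx0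
        exact hγr.ne_zero (le_antisymm (neg_nonneg.mp h2) hγ0)
      · simp only [ι, h0, if_false] at he
        have h1 : rep cs h t x = -γ := by rw [← he, neg_neg]
        have h2 := htt x
        rw [h1, map_neg, htγ, neg_neg] at h2
        exact hxγ h2.symm
    · intro x hx
      have hxF := Finset.mem_of_mem_erase hx
      obtain ⟨hxp, hxf⟩ := Finset.mem_filter.mp hxF
      obtain ⟨hxr, hx0⟩ := mem_posF.mp hxp
      by_cases h0 : 0 ≤ rep cs h t x
      · simp only [ι, h0, if_true]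
        rw [htt x]
        simp only [hx0, if_true]
      · simp only [ι, h0, if_false]
        rw [map_neg, htt x, neg_neg]
        have h3 : ¬ (0 : I → ℤ) ≤ -x := by
          intro h4
          exact hxr.ne_zero (le_antisymm (neg_nonneg.mp h4) hx0)
        simp only [h3, if_false]
  rw [hone, mul_one]

/-- **A divisor of the index.** -/
theorem dvd_index_orth [Finite S] [Finite W] (hG : GG cs h T X = ⊤) {r : I → ℤ} (hr : IsRoot cs h r)
    (hd : Dom A r) {l : ℕ} (hsq : ∀ x, IsRoot cs h x → ((Nat.card (X x) : ℕ) : ZMod l) ^ 2 = 1)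
    (hrl : ((Nat.card (X r) : ℕ) : ZMod l) = -1) : l ∣ (PJ cs h T X (orth cs h r)).index := by
  classical
  have : Fintype W := Fintype.ofFinite W
  rw [← CharP.cast_eq_zero_iff (ZMod l) l, index_orth R hG hd, Nat.cast_sum]
  set O : Finset (I → ℤ) := Finset.univ.image (fun w : W => rep cs h w r) with hO
  have hOr : ∀ β ∈ O, IsRoot cs h β ∧ ((Nat.card (X β) : ℕ) : ZMod l) = -1 := by
    intro β hβ
    obtain ⟨w, -, rfl⟩ := Finset.mem_image.mp hβ
    exact ⟨hr.act w, by rw [card_X_rep R w hr, hrl]⟩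
  have hFsq : ∀ β, ((Fm cs h X β : ℕ) : ZMod l) ^ 2 = 1 := by
    intro β
    unfold Fm
    rw [Nat.cast_prod, ← Finset.prod_pow]
    refine Finset.prod_eq_one fun x hx => ?_
    exact hsq x (mem_posF.mp (Finset.mem_filter.mp hx).1).1
  have hFF : ∀ β ∈ O, ((Fm cs h X β : ℕ) : ZMod l) * ((Fm cs h X (-β) : ℕ) : ZMod l) = -1 := by
    intro β hβ
    obtain ⟨h1, h2⟩ := hOr β hβ
    rw [← h2, ← prod_not_orth R hsq h1]
    unfold Fm
    rw [Nat.cast_prod, Nat.cast_prod]
    have e1 : (posF cs h).filter (fun x => form cs h x β ≠ 0) =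
        (posF cs h).filter (fun x => form cs h x β < 0) ∪ (posF cs h).filter (fun x => form cs h x (-β) < 0) := by
      ext x
      rw [Finset.mem_union, Finset.mem_filter, Finset.mem_filter, Finset.mem_filter, form_neg_right]
      constructor
      · rintro ⟨h3, h4⟩
        rcases lt_or_gt_of_ne h4 with h5 | h5
        · exact Or.inl ⟨h3, h5⟩
        · exact Or.inr ⟨h3, by omega⟩
      · rintro (⟨h3, h4⟩ | ⟨h3, h4⟩)
        · exact ⟨h3, h4.ne⟩
        · exact ⟨h3, by omega⟩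
    rw [e1, Finset.prod_union]
    rw [Finset.disjoint_left]
    intro x hx hx'
    have h3 := (Finset.mem_filter.mp hx).2
    have h4 := (Finset.mem_filter.mp hx').2
    rw [form_neg_right] at h4
    omega
  refine Finset.sum_involution (fun β _ => -β) ?_ ?_ ?_ ?_
  · intro β hβ
    have h1 := hFF β hβ
    have h2 := hFsq β
    have h3 : ((Fm cs h X (-β) : ℕ) : ZMod l) = -((Fm cs h X β : ℕ) : ZMod l) := by
      calc ((Fm cs h X (-β) : ℕ) : ZMod l) = ((Fm cs h X β : ℕ) : ZMod l) ^ 2 * ((Fm cs h X (-β) : ℕ) : ZMod l) := by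
            rw [h2, one_mul]
        _ = ((Fm cs h X β : ℕ) : ZMod l) * (((Fm cs h X β : ℕ) : ZMod l) * ((Fm cs h X (-β) : ℕ) : ZMod l)) := by ring
        _ = _ := by rw [h1]; ring
    rw [h3, add_neg_cancel]
  · intro β hβ _ he
    have h1 := (hOr β hβ).1.ne_zero
    apply h1
    have : β = -β := he.symm
    exact self_eq_neg.mp this
  · intro β hβ
    obtain ⟨w, -, rfl⟩ := Finset.mem_image.mp hβ
    obtain ⟨v, i, hv⟩ := hr
    refine Finset.mem_image.mpr ⟨w * (v * cs.simple i * v⁻¹), Finset.mem_univ _, ?_⟩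
    rw [rep_mul_apply, rep_mul_apply, rep_mul_apply]
    have h1 : rep cs h v⁻¹ r = sr i := by rw [hv, rep_inv_apply]
    rw [h1, rep_simple_sr, map_neg, ← hv, map_neg]
  · intro β _
    exact neg_neg β

end Cfsg.Agent.H554.RG
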