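import Mathlib
import Cfsg.Agent.H554.RGIdx

/-!
# No Hall systems for most groups with a root group datum (helper554)

* `DD_matrix`, `DD_card` : the diagram permutations preserve the Coxeter matrix and the orders of the root groups;
* `noHall_of_root` : the criterion with a dominant root `r` orthogonal to all simple roots but `α_k`.
-/

set_option autoImplicit false
set_option linter.unusedSectionVars false

namespace Cfsg.Agent.H554.RG

open CoxeterSystem Cfsg.Agent.ChevalleyStructure.CoxeterGeom Cfsg.Agent.Tits.Roots Cfsg.Agent.Tits.Core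
  Cfsg.Agent.Tits.Exchange Cfsg.Agent.Nodes.Reps Cfsg.Agent.Nodes.BNOf Cfsg.Agent.Nodes.StabComb
  Cfsg.Agent.Nodes.Bruhat Cfsg.Agent.Nodes.OppDec Cfsg.Agent.Nodes.LeviDec Cfsg.Agent.Nodes.NormalForm
  Cfsg.Agent.KFacts.RgdOpp Cfsg.Agent.KFacts.RgdAut Cfsg.Agent.KFacts.RgdDiag

variable {I W S : Type*} [Fintype I] [DecidableEq I] [Group W] [Group S] {M : CoxeterMatrix I}
  {cs : CoxeterSystem M W} {A : I → I → ℤ} {h : IsCartan M A} {p : ℕ} {T : Subgroup S} {n : I → S}
  {X : (I → ℤ) → Subgroup S} (R : RGD cs h p T n X)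

include R

theorem DD_matrix [Finite W] {A0 : Subgroup (MulAut S)} {σ : Equiv.Perm I} (hσ : σ ∈ DD cs h T X A0) (i j : I) :
    M (σ i) (σ j) = M i j := by
  obtain ⟨a, -, hs⟩ := hσ
  exact Diag.matrix (R := R) hs.diag i j

omit R in
theorem DD_card {A0 : Subgroup (MulAut S)} {σ : Equiv.Perm I} (hσ : σ ∈ DD cs h T X A0) (i : I) :
    Nat.card (X (sr (σ i))) = Nat.card (X (sr i)) := by
  obtain ⟨a, -, hs⟩ := hσ
  have h1 : (X (sr i)).map a.toMonoidHom = X (sr (σ i)) := by
    ext x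
    constructor
    · rintro ⟨y, hy, rfl⟩
      exact (hs.diag.pos i y).mpr hy
    · intro hx
      refine ⟨a⁻¹ x, (hs.diag.pos i _).mp ?_, MulAut.apply_inv_self S a x⟩
      rw [MulAut.apply_inv_self]
      exact hx
  rw [← h1]
  exact Nat.card_congr ((X (sr i)).equivMapOfInjective _ a.injective).symm.toEquiv

/-- **The criterion.** -/
theorem noHall_of_root [Finite W] [Finite S] [Fact p.Prime] (hG : GG cs h T X = ⊤) {r : I → ℤ}
    (hr : IsRoot cs h r) (hd : Dom A r) (k j : I) (hk : ∀ i, i ≠ k → i ∈ orth cs h r)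
    (hj : ∀ σ : Equiv.Perm I, (∀ a b, M (σ a) (σ b) = M a b) →
      (∀ a, Nat.card (X (sr (σ a))) = Nat.card (X (sr a))) → σ k ≠ j)
    {l : ℕ} (hl : l ≠ 1) (hsq : ∀ x, IsRoot cs h x → ((Nat.card (X x) : ℕ) : ZMod l) ^ 2 = 1)
    (hrl : ((Nat.card (X r) : ℕ) : ZMod l) = -1) (hjl : ((Nat.card (X (sr j)) : ℕ) : ZMod l) = -1) : NoHall S := by
  intro A0 m hA
  obtain ⟨h1, -⟩ := hall_parabolic R hG hA k
  set J : Set I := {i | ∀ σ ∈ DD cs h T X A0, σ k ≠ i} with hJ
  have hJo : J ⊆ orth cs h r := by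
    intro i hi
    exact hk i fun e => hi 1 (DD cs h T X A0).one_mem e.symm
  have hjJ : j ∈ J := by
    intro σ hσ
    exact hj σ (fun a b => DD_matrix R hσ a b) (fun a => DD_card hσ a)
  have h2 : l ∣ (PJ cs h T X J).index :=
    (dvd_index_orth R hG hr hd hsq hrl).trans (Subgroup.index_dvd_of_le (PJ_mono R hJo))
  have h3 : l ∣ Nat.card (PJ cs h T X J) := by
    have h4 : l ∣ Nat.card (X (sr j)) + 1 := by
      rw [← CharP.cast_eq_zero_iff (ZMod l) l, Nat.cast_add, hjl, Nat.cast_one, neg_add_cancel]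
    rw [← relIndex_B_PJ_singleton R j] at h4
    refine (h4.trans (Subgroup.relIndex_dvd_card _ _)).trans (Subgroup.card_dvd_of_le ?_)
    exact PJ_mono R (Set.singleton_subset_iff.mpr hjJ)
  exact hl (Nat.eq_one_of_dvd_coprimes h1 h3 h2)

end Cfsg.Agent.H554.RG
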