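import Mathlib
import Cfsg.Agent.H554.RGNo
import Cfsg.Agent.Mrg.Omega.ML.RowTits

/-!
# Hall systems and Tits' lemma (helper554)

* `exists_le_of_U`, `exists_conj_le` : a proper subgroup of index prime to `p` is in a maximal parabolic subgroup;
* `false_of_root` : the criterion `noHall_of_root` for one Hall system;
* `DD_pow` : `σ ^ |A0 : Inn S| = 1` for the diagram permutations of `A0`;
* `false_of_p_dvd` : no Hall system with `p ∣ m` if some prime does not divide the parabolic subgroups;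
* `noHall_of_torus` : characteristic two, a prime `r` dividing `|T|` but not `|S : B|`.
-/

set_option autoImplicit false
set_option linter.unusedSectionVars false

namespace Cfsg.Agent.H554.RG

open CoxeterSystem Cfsg.Agent.ChevalleyStructure.CoxeterGeom Cfsg.Agent.Tits.Roots Cfsg.Agent.Tits.Core
  Cfsg.Agent.Tits.Exchange Cfsg.Agent.Nodes.Reps Cfsg.Agent.Nodes.BNOf Cfsg.Agent.Nodes.StabComb
  Cfsg.Agent.Nodes.Bruhat Cfsg.Agent.Nodes.OppDec Cfsg.Agent.Nodes.LeviDec Cfsg.Agent.Nodes.NormalForm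
  Cfsg.Agent.KFacts.RgdOpp Cfsg.Agent.KFacts.RgdAut Cfsg.Agent.KFacts.RgdDiag
open Cfsg.Agent.Omega.ML.LieRgd (le_PJ_of_U eq_top_of_U)

/-- the order of a subgroup and its relative index -/
theorem card_mul_relIndex' {G : Type*} [Group G] {H K : Subgroup G} (hHK : H ≤ K) :
    Nat.card H * H.relIndex K = Nat.card K := by
  rw [Subgroup.relIndex, ← Nat.card_congr (Subgroup.subgroupOfEquivOfLe hHK).toEquiv]
  exact (H.subgroupOf K).card_mul_index

theorem relIndex_dvd_of_sup {G : Type*} [Group G] [Finite G] {U T : Subgroup G}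
    (hT : T ≤ Subgroup.normalizer (U : Set G)) : T.relIndex (U ⊔ T) ∣ Nat.card U := by
  have hU : U ≤ U ⊔ T := le_sup_left
  have hT' : T ≤ U ⊔ T := le_sup_right
  have hN : (U.subgroupOf (U ⊔ T)).Normal :=
    Subgroup.normal_subgroupOf_of_le_normalizer (sup_le Subgroup.le_normalizer hT)
  have h1 : T.subgroupOf (U ⊔ T) ⊔ U.subgroupOf (U ⊔ T) = ⊤ := by
    rw [← Subgroup.subgroupOf_sup hT' hU, sup_comm T U, Subgroup.subgroupOf_self]
  have h2 := Subgroup.relIndex_sup_right (T.subgroupOf (U ⊔ T)) (U.subgroupOf (U ⊔ T))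
  rw [h1, Subgroup.relIndex_top_right] at h2
  have h3 : (U.subgroupOf (U ⊔ T)).index ∣ Nat.card T := by
    rw [h2, ← Nat.card_congr (Subgroup.subgroupOfEquivOfLe hT').toEquiv]
    exact Subgroup.relIndex_dvd_card _ _
  have h4 : Nat.card U * (U.subgroupOf (U ⊔ T)).index = Nat.card ↥(U ⊔ T) := card_mul_relIndex' hU
  have h5 : Nat.card T * T.relIndex (U ⊔ T) = Nat.card ↥(U ⊔ T) := card_mul_relIndex' hT'
  have h6 : Nat.card T * T.relIndex (U ⊔ T) ∣ Nat.card T * Nat.card U := by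
    rw [h5, ← h4, mul_comm]
    exact Nat.mul_dvd_mul_right h3 _
  exact Nat.dvd_of_mul_dvd_mul_left Nat.card_pos h6

variable {I W S : Type*} [Fintype I] [DecidableEq I] [Group W] [Group S] {M : CoxeterMatrix I}
  {cs : CoxeterSystem M W} {A : I → I → ℤ} {h : IsCartan M A} {p : ℕ} {T : Subgroup S} {n : I → S}
  {X : (I → ℤ) → Subgroup S} (R : RGD cs h p T n X)

include R

theorem relIndex_T_B_dvd [Finite S] : T.relIndex (RGD.B cs h T X) ∣ Nat.card (RGD.Sup X (RGD.Pos cs h)) := by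
  have hTN : T ≤ Subgroup.normalizer ((RGD.Sup X (RGD.Pos cs h) : Subgroup S) : Set S) :=
    R.T_le_normalizer (S := RGD.Pos cs h) (fun _ hx => hx.1)
  have h1 := relIndex_dvd_of_sup hTN
  have h2 : RGD.B cs h T X = RGD.Sup X (RGD.Pos cs h) ⊔ T := by
    first | rfl | exact sup_comm _ _
  rw [h2]
  exact h1

/-- **Tits' lemma.** -/
theorem exists_le_of_U [Finite W] (hG : GG cs h T X = ⊤) (hG1 : RGD.Sup X {x | IsRoot cs h x} = ⊤)
    {P : Subgroup S} (hU : RGD.Sup X (RGD.Pos cs h) ≤ P) (hP : P ≠ ⊤) : ∃ i, P ≤ PJ cs h T X {i}ᶜ := by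
  have h1 : ∃ i, ¬ X (-sr i) ≤ P := by
    by_contra hcon
    push Not at hcon
    exact hP (eq_top_of_U R hG1 hU hcon)
  obtain ⟨i, hi⟩ := h1
  refine ⟨i, (le_PJ_of_U R hG hU).trans (PJ_mono R ?_)⟩
  intro j hj hji
  rw [Set.mem_singleton_iff] at hji
  subst hji
  exact hi hj

theorem exists_conj_le [Finite W] [Finite S] [hp : Fact p.Prime] (hG : GG cs h T X = ⊤)
    (hG1 : RGD.Sup X {x | IsRoot cs h x} = ⊤) {P : Subgroup S} (hPi : ¬ p ∣ P.index) (hP : P ≠ ⊤) :
    ∃ (g : S) (i : I), P.map (MulAut.conj g).toMonoidHom ≤ PJ cs h T X {i}ᶜ := by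
  obtain ⟨Q, hQ⟩ := exists_sylow R hG
  -- a Sylow subgroup inside `P`
  obtain ⟨Q₀⟩ : Nonempty (Sylow p P) := inferInstance
  have h1 : ¬ p ∣ ((Q₀ : Subgroup P).map P.subtype).index := by
    rw [Subgroup.index_map_subtype]
    intro hd
    rcases hp.out.dvd_mul.mp hd with h | h
    · exact Q₀.not_dvd_index h
    · exact hPi h
  have h2 : IsPGroup p ((Q₀ : Subgroup P).map P.subtype) := Q₀.isPGroup'.map _
  obtain ⟨g, hg⟩ := MulAction.exists_smul_eq S (h2.toSylow h1) Q
  have h3 : RGD.Sup X (RGD.Pos cs h) ≤ P.map (MulAut.conj g).toMonoidHom := by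
    rw [← hQ, ← hg]
    change ((Q₀ : Subgroup P).map P.subtype).map (MulAut.conj g).toMonoidHom ≤ _
    exact Subgroup.map_mono (Subgroup.map_subtype_le _)
  have h4 : P.map (MulAut.conj g).toMonoidHom ≠ ⊤ := by
    intro h5
    apply hP
    have h6 : (⊤ : Subgroup S).map (MulAut.conj g).toMonoidHom = ⊤ :=
      Subgroup.map_top_of_surjective _ (MulAut.conj g).surjective
    exact map_conj_inj (h5.trans h6.symm)
  obtain ⟨i, hi⟩ := exists_le_of_U R hG hG1 h3 h4
  exact ⟨g, i, hi⟩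

/-- The criterion for one Hall system. -/
theorem false_of_root [Finite W] [Finite S] [Fact p.Prime] (hG : GG cs h T X = ⊤) {A0 : Subgroup (MulAut S)}
    {m : ℕ} (hA : HallSys S A0 m) {r : I → ℤ}
    (hr : IsRoot cs h r) (hd : Dom A r) (k j : I)
    (hk : ∀ i, (∀ σ ∈ DD cs h T X A0, σ k ≠ i) → i ∈ orth cs h r)
    (hj : ∀ σ ∈ DD cs h T X A0, σ k ≠ j)
    {l : ℕ} (hl : l ≠ 1) (hsq : ∀ x, IsRoot cs h x → ((Nat.card (X x) : ℕ) : ZMod l) ^ 2 = 1)
    (hrl : ((Nat.card (X r) : ℕ) : ZMod l) = -1) (hjl : ((Nat.card (X (sr j)) : ℕ) : ZMod l) = -1) : False := by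
  obtain ⟨h1, -⟩ := hall_parabolic R hG hA k
  set J : Set I := {i | ∀ σ ∈ DD cs h T X A0, σ k ≠ i} with hJ
  have hJo : J ⊆ orth cs h r := fun i hi => hk i hi
  have hjJ : j ∈ J := hj
  have h2 : l ∣ (PJ cs h T X J).index :=
    (dvd_index_orth R hG hr hd hsq hrl).trans (Subgroup.index_dvd_of_le (PJ_mono R hJo))
  have h3 : l ∣ Nat.card (PJ cs h T X J) := by
    have h4 : l ∣ Nat.card (X (sr j)) + 1 := by
      rw [← CharP.cast_eq_zero_iff (ZMod l) l, Nat.cast_add, hjl, Nat.cast_one, neg_add_cancel]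
    rw [← relIndex_B_PJ_singleton R j] at h4
    refine (h4.trans (Subgroup.relIndex_dvd_card _ _)).trans (Subgroup.card_dvd_of_le ?_)
    exact PJ_mono R (Set.singleton_subset_iff.mpr hjJ)
  exact hl (Nat.eq_one_of_dvd_coprimes h1 h3 h2)

omit R in
theorem Std.pow {β : MulAut S} {σ : Equiv.Perm I} (D : Std cs h T X β σ) (k : ℕ) :
    Std cs h T X (β ^ k) (σ ^ k) := by
  induction k with
  | zero => rw [pow_zero, pow_zero]; exact Std.one
  | succ k ih => rw [pow_succ, pow_succ]; exact ih.mul D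

/-- an inner automorphism induces the identity on the diagram -/
theorem Std.eq_one_of_conj [Finite W] [Finite S] [Fact p.Prime] (hG : GG cs h T X = ⊤) {s : S} {σ : Equiv.Perm I}
    (D : Std cs h T X (MulAut.conj s) σ) : σ = 1 := by
  ext i
  have h1 := map_PJ R hG D {i}
  have h2 : s ∈ PJ cs h T X {i} := by
    refine mem_of_B_le_conj R hG B_le_PJ ?_
    rw [h1]
    exact B_le_PJ
  rw [map_conj_of_mem R h2] at h1
  have h3 := PJ_injective R h1
  rw [Set.image_singleton, Set.singleton_eq_singleton_iff] at h3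
  exact h3.symm

/-- **The order of a diagram permutation divides `|A0 : Inn S|`.** -/
theorem DD_pow [Finite W] [Finite S] [Fact p.Prime] (hG : GG cs h T X = ⊤) {A0 : Subgroup (MulAut S)}
    {σ : Equiv.Perm I} (hσ : σ ∈ DD cs h T X A0) :
    σ ^ ((MulAut.conj : S →* MulAut S).range.relIndex A0) = 1 := by
  obtain ⟨a, ha, D⟩ := hσ
  have hn : ((MulAut.conj : S →* MulAut S).range).Normal := by
    refine ⟨?_⟩
    rintro _ ⟨s, rfl⟩ g
    refine ⟨g s, ?_⟩
    ext y
    simp
  have h1 : a ^ ((MulAut.conj : S →* MulAut S).range.relIndex A0) ∈ (MulAut.conj : S →* MulAut S).range := by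
    have h2 : ((MulAut.conj : S →* MulAut S).range.subgroupOf A0).Normal := inferInstance
    have h3 := Subgroup.pow_index_mem ((MulAut.conj : S →* MulAut S).range.subgroupOf A0) (⟨a, ha⟩ : A0)
    rw [Subgroup.mem_subgroupOf] at h3
    exact h3
  obtain ⟨s, hs⟩ := h1
  have h4 := D.pow ((MulAut.conj : S →* MulAut S).range.relIndex A0)
  rw [← hs] at h4
  exact Std.eq_one_of_conj R hG h4

theorem DD_pow_m [Finite W] [Finite S] [Fact p.Prime] (hG : GG cs h T X = ⊤) {A0 : Subgroup (MulAut S)}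
    {m : ℕ} (hA : HallSys S A0 m) {σ : Equiv.Perm I} (hσ : σ ∈ DD cs h T X A0) : σ ^ m = 1 := by
  obtain ⟨k, hk⟩ := hA.idx
  rw [hk, pow_mul, DD_pow R hG hσ, one_pow]

/-- **No Hall system with `p ∣ m`** if the prime `s` does not divide the order of a maximal parabolic subgroup. -/
theorem false_of_p_dvd [Finite W] [Finite S] [hp : Fact p.Prime] [IsSimpleGroup S] (hna : ¬ IsMulCommutative S)
    (hG : GG cs h T X = ⊤) (hG1 : RGD.Sup X {x | IsRoot cs h x} = ⊤) {A0 : Subgroup (MulAut S)} {m : ℕ}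
    (hA : HallSys S A0 m) (hpm : p ∣ m) {s : ℕ} (hs : s.Prime) (hd : s ∣ Nat.card S)
    (hP : ∀ i, ¬ s ∣ Nat.card (PJ cs h T X {i}ᶜ)) : False := by
  have : Fact s.Prime := ⟨hs⟩
  obtain ⟨Q⟩ : Nonempty (Sylow s S) := inferInstance
  obtain ⟨P, hP1, hP2, -, -, hP5, -⟩ := hA.sylow hna hd Q
  have h1 : ¬ p ∣ P.index := by
    intro h2
    have := Nat.dvd_gcd h2 hpm
    rw [hP5] at this
    exact hp.out.one_lt.ne' (Nat.dvd_one.mp this)
  obtain ⟨g, i, hgi⟩ := exists_conj_le R hG hG1 h1 hP2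
  apply hP i
  have h3 : s ∣ Nat.card P :=
    (Q.dvd_card_of_dvd_card hd).trans (Subgroup.card_dvd_of_le (Subgroup.le_normalizer.trans hP1))
  have h4 : Nat.card (P.map (MulAut.conj g).toMonoidHom) = Nat.card P :=
    Nat.card_congr (P.equivMapOfInjective _ (MulAut.conj g).injective).symm.toEquiv
  rw [← h4] at h3
  exact h3.trans (Subgroup.card_dvd_of_le hgi)

/-- **Characteristic two**: no Hall system if a prime `r` divides `|T|` but not `|S : B|`. -/
theorem noHall_of_torus [Finite W] [Finite S] [hp : Fact p.Prime] [IsSimpleGroup S] (hna : ¬ IsMulCommutative S)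
    (hG : GG cs h T X = ⊤) (hG1 : RGD.Sup X {x | IsRoot cs h x} = ⊤) (hp2 : p = 2)
    {r : ℕ} (hr : r.Prime) (hd : r ∣ Nat.card T) (hB : ¬ r ∣ (RGD.B cs h T X).index) : NoHall S := by
  intro A0 m hA
  have : Fact r.Prime := ⟨hr⟩
  -- the Sylow subgroup
  obtain ⟨Q₀⟩ : Nonempty (Sylow r T) := inferInstance
  have hTB : T ≤ RGD.B cs h T X := RGD.T_le_B
  have hrp : r ≠ p := by
    intro e
    have h1 := R.tcop
    rw [← e] at h1
    exact hr.one_lt.ne' (Nat.dvd_one.mp (h1 ▸ Nat.dvd_gcd hd dvd_rfl))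
  have hTi : ¬ r ∣ T.index := by
    rw [← Subgroup.relIndex_mul_index hTB]
    intro hdv
    rcases hr.dvd_mul.mp hdv with h1 | h1
    · -- `|B : T|` divides `|U|`
      have h2 : T.relIndex (RGD.B cs h T X) ∣ Nat.card (RGD.Sup X (RGD.Pos cs h)) := relIndex_T_B_dvd R
      obtain ⟨e, he⟩ := IsPGroup.iff_card.mp R.isPGroup_Upos
      rw [he] at h2
      exact hrp ((Nat.prime_dvd_prime_iff_eq hr hp.out).mp (hr.dvd_of_dvd_pow (h1.trans h2)))
    · exact hB h1
  have hQi : ¬ r ∣ ((Q₀ : Subgroup T).map T.subtype).index := by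
    rw [Subgroup.index_map_subtype]
    intro hdv
    rcases hr.dvd_mul.mp hdv with h1 | h1
    · exact Q₀.not_dvd_index h1
    · exact hTi h1
  set Q : Sylow r S := (Q₀.isPGroup'.map T.subtype).toSylow hQi with hQdef
  have hQT : (Q : Subgroup S) ≤ T := Subgroup.map_subtype_le _
  -- elements of `T n i` in the normaliser
  have hN : ∀ i, ∃ t ∈ T, t * n i ∈ Subgroup.normalizer ((Q : Subgroup S) : Set S) := by
    intro i
    have h1 : ((n i • Q : Sylow r S) : Subgroup S) ≤ T := by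
      rw [Sylow.coe_subgroup_smul]
      rintro _ ⟨x, hx, rfl⟩
      exact (Subgroup.mem_normalizer_iff.mp (R.nsys.norm i) x).mp (hQT hx)
    obtain ⟨t, ht⟩ := MulAction.exists_smul_eq T ((n i • Q).subtype h1) (Q.subtype hQT)
    rw [Sylow.smul_subtype] at ht
    have h2 : t • (n i • Q) = Q := Sylow.subtype_injective ht
    refine ⟨t, t.2, Sylow.smul_eq_iff_mem_normalizer.mp ?_⟩
    rw [mul_smul]
    exact h2
  have hdS : r ∣ Nat.card S := hd.trans (Subgroup.card_subgroup_dvd_card T)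
  obtain ⟨P, hP1, hP2, -, hP4, -, -⟩ := hA.sylow hna hdS Q
  have hne : Nonempty I := by
    by_contra hI
    rw [not_nonempty_iff] at hI
    have h1 : ∀ x, ¬ IsRoot cs h x := fun x hx => hx.ne_zero (Subsingleton.elim _ _)
    have h2 : RGD.Sup X {x | IsRoot cs h x} = ⊥ := by
      rw [eq_bot_iff]
      exact RGD.Sup_le fun x hx => absurd hx (h1 x)
    rw [hG1] at h2
    exact hP2 (eq_top_iff.mpr (h2 ▸ bot_le))
  -- even order
  have heven : 2 ∣ Nat.card P := by
    obtain ⟨i⟩ := hne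
    obtain ⟨t, ht, htn⟩ := hN i
    have h1 : Rp cs R.nsys (cs.simple i) (t * n i) := by
      have := (rp_of_mem (cs := cs) (hN := R.nsys) ht).mul (rp_simple cs R.nsys i)
      rwa [one_mul] at this
    have h2 : ∀ k : ℕ, Rp cs R.nsys (cs.simple i ^ k) ((t * n i) ^ k) := by
      intro k
      induction k with
      | zero => rw [pow_zero, pow_zero]; exact rp_of_mem (cs := cs) (hN := R.nsys) T.one_mem
      | succ k ih => rw [pow_succ, pow_succ]; exact ih.mul h1
    by_contra hodd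
    have h3 : (t * n i) ^ Nat.card P = 1 := by
      have h9 : (⟨t * n i, hP1 htn⟩ : P) ^ Nat.card P = 1 := pow_card_eq_one'
      exact congrArg Subtype.val h9
    have h4 := h2 (Nat.card P)
    rw [h3] at h4
    have h5 : cs.simple i ^ Nat.card P = cs.simple i := by
      obtain ⟨k, hk⟩ := Nat.odd_iff.mpr (Nat.two_dvd_ne_zero.mp hodd)
      rw [hk, pow_add, pow_mul, pow_one, pow_two, simple_mul_simple_self, one_pow, one_mul]
    rw [h5] at h4
    have h6 : Rp cs R.nsys (1 : W) (1 : S) := rp_of_mem (cs := cs) (hN := R.nsys) T.one_mem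
    have h7 := Cell.unique R (cell_of_rp h4) (cell_of_rp h6)
    have h8 := cs.length_simple i
    rw [h7, cs.length_one] at h8
    exact zero_ne_one h8
  have hPi : ¬ p ∣ P.index := by
    rw [hp2]
    intro h1
    have := Nat.dvd_gcd heven h1
    rw [hP4] at this
    norm_num at this
  obtain ⟨g, i, hgi⟩ := exists_conj_le R hG hG1 hPi hP2
  set Z := PJ cs h T X {i}ᶜ with hZ
  have hTZ : T ≤ Z := hTB.trans B_le_PJ
  have h1 : ((g • Q : Sylow r S) : Subgroup S) ≤ Z := by
    rw [Sylow.coe_subgroup_smul]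
    refine le_trans ?_ hgi
    exact Subgroup.map_mono (Subgroup.le_normalizer.trans hP1)
  obtain ⟨y, hy⟩ := MulAction.exists_smul_eq Z ((g • Q).subtype h1) (Q.subtype (hQT.trans hTZ))
  rw [Sylow.smul_subtype] at hy
  have h2 : y • (g • Q) = Q := Sylow.subtype_injective hy
  have h3 : (y : S) * g ∈ P := by
    apply hP1
    apply Sylow.smul_eq_iff_mem_normalizer.mp
    rw [mul_smul]
    exact h2
  have h4 : P ≤ Z := by
    intro x hx
    have h5 : (((y : S) * g)⁻¹ * x * ((y : S) * g)) ∈ P := mul_mem (mul_mem (inv_mem h3) hx) h3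
    have h6 := hgi (Subgroup.mem_map_of_mem (MulAut.conj g).toMonoidHom h5)
    have h7 : (MulAut.conj g).toMonoidHom (((y : S) * g)⁻¹ * x * ((y : S) * g)) = (y : S)⁻¹ * x * y := by
      change g * _ * g⁻¹ = _
      group
    rw [h7] at h6
    have h8 := mul_mem (mul_mem y.2 h6) (inv_mem y.2)
    have h9 : (y : S) * ((y : S)⁻¹ * x * y) * (y : S)⁻¹ = x := by group
    rwa [h9] at h8
  obtain ⟨t, ht, htn⟩ := hN i
  have h5 : n i ∈ Z := by
    have h6 := mul_mem (inv_mem (hTZ ht)) (h4 (hP1 htn))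
    simpa using h6
  rw [hZ, n_mem_PJ_iff R] at h5
  exact h5 rfl

/-- The torus is stable. -/
theorem stab_T [Finite W] [Finite S] [Fact p.Prime] (hG : GG cs h T X = ⊤) {A0 : Subgroup (MulAut S)} : Stab A0 T := by
  intro a _
  obtain ⟨s, σ, D⟩ := exists_std_conj R hG a
  have h1 := fix_iff.mp D.diag.tor
  refine ⟨s⁻¹, ?_⟩
  have e : (MulAut.conj s * a : MulAut S).toMonoidHom = (MulAut.conj s).toMonoidHom.comp
      (a : S ≃* S).toMonoidHom := rfl
  rw [e, ← Subgroup.map_map] at h1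
  have h2 := congrArg (fun Z : Subgroup S => Z.map (MulAut.conj s⁻¹).toMonoidHom) h1
  simp only [map_conj_map_conj, inv_mul_cancel, map_conj_one] at h2
  exact h2

/-- the elements of `T n_i` have even order -/
theorem even_of_n_mem [Finite W] [Finite S] {P : Subgroup S} {i : I} {t : S} (ht : t ∈ T) (hP : t * n i ∈ P) :
    2 ∣ Nat.card P := by
  have h1 : Rp cs R.nsys (cs.simple i) (t * n i) := by
    have := (rp_of_mem (cs := cs) (hN := R.nsys) ht).mul (rp_simple cs R.nsys i)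
    rwa [one_mul] at this
  have h2 : ∀ k : ℕ, Rp cs R.nsys (cs.simple i ^ k) ((t * n i) ^ k) := by
    intro k
    induction k with
    | zero => rw [pow_zero, pow_zero]; exact rp_of_mem (cs := cs) (hN := R.nsys) T.one_mem
    | succ k ih => rw [pow_succ, pow_succ]; exact ih.mul h1
  by_contra hodd
  have h3 : (t * n i) ^ Nat.card P = 1 := by
    have h9 : (⟨t * n i, hP⟩ : P) ^ Nat.card P = 1 := pow_card_eq_one'
    exact congrArg Subtype.val h9
  have h4 := h2 (Nat.card P)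
  rw [h3] at h4
  have h5 : cs.simple i ^ Nat.card P = cs.simple i := by
    obtain ⟨k, hk⟩ := Nat.odd_iff.mpr (Nat.two_dvd_ne_zero.mp hodd)
    rw [hk, pow_add, pow_mul, pow_one, pow_two, simple_mul_simple_self, one_pow, one_mul]
  rw [h5] at h4
  have h6 : Rp cs R.nsys (1 : W) (1 : S) := rp_of_mem (cs := cs) (hN := R.nsys) T.one_mem
  have h7 := Cell.unique R (cell_of_rp h4) (cell_of_rp h6)
  have h8 := cs.length_simple i
  rw [h7, cs.length_one] at h8
  exact zero_ne_one h8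

/-- **Characteristic two**: no Hall system if the normaliser of `T` is in no maximal parabolic subgroup. -/
theorem noHall_of_normalizer_T [Finite W] [Finite S] [Nonempty I] [hp : Fact p.Prime] [IsSimpleGroup S]
    (hna : ¬ IsMulCommutative S)
    (hG : GG cs h T X = ⊤) (hG1 : RGD.Sup X {x | IsRoot cs h x} = ⊤) (hp2 : p = 2) (hT : T ≠ ⊥)
    (hirr : ∀ (g : S) (i : I), ¬ (Subgroup.normalizer (T : Set S)).map (MulAut.conj g).toMonoidHom ≤
      PJ cs h T X {i}ᶜ) : NoHall S := by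
  intro A0 m hA
  have hTt : T ≠ ⊤ := by
    intro h1
    have h2 : RGD.B cs h T X ≤ PJ cs h T X (∅ : Set I) := B_le_PJ
    have h3 : PJ cs h T X (∅ : Set I) = ⊤ := top_le_iff.mp (h1 ▸ RGD.T_le_B.trans h2)
    rw [PJ_eq_top_iff R hG] at h3
    obtain ⟨i⟩ := ‹Nonempty I›
    exact Set.notMem_empty i (h3 ▸ Set.mem_univ i)
  have h1 : Subgroup.normalizer (T : Set S) ≠ ⊥ := by
    intro hb
    exact hT (le_bot_iff.mp (hb ▸ (Subgroup.le_normalizer : T ≤ _)))
  obtain ⟨P, hP1, hP2, -, hP4, -⟩ := hA.hall _ h1 (normalizer_ne_top hna hT hTt) (stab_T R hG).normalizer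
  obtain ⟨i⟩ := ‹Nonempty I›
  have heven : 2 ∣ Nat.card P :=
    even_of_n_mem R (i := i) T.one_mem (hP1 (by rw [one_mul]; exact R.nsys.norm i))
  have hPi : ¬ p ∣ P.index := by
    rw [hp2]
    intro h1
    have := Nat.dvd_gcd heven h1
    rw [hP4] at this
    norm_num at this
  obtain ⟨g, i, hgi⟩ := exists_conj_le R hG hG1 hPi hP2
  exact hirr g i ((Subgroup.map_mono hP1).trans hgi)

end Cfsg.Agent.H554.RG
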