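import Mathlib
import Cfsg.Agent.H554.RGTits
import Cfsg.Agent.Nodes.RGDTypeA
import Cfsg.Agent.ClassicalGeometry.SubspaceFrames
import Cfsg.Agent.S0243

/-!
# The maximal parabolic subgroups of `PSL_{n+1}(F)` (helper554)

* `Wk k` : the span of the first `k` basis vectors; `index_stab` : the number of `k`-dimensional subspaces;
* `PJ_eq` : the parabolic subgroup of the complement of the node `k - 1` is the stabiliser of `Wk k`;
* `index_PJ_compl`, `card_PJ_compl` : its index and order;
* `exists_submodule` : conjugates of subgroups of a maximal parabolic subgroup are reducible.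
-/

set_option autoImplicit false
set_option linter.unusedSectionVars false

namespace Cfsg.Agent.H554.SLSub

open Matrix Pointwise Module

variable {n : ℕ} {F : Type*} [Field F]

/-- The span of the first `k` basis vectors. -/
def Wk (n : ℕ) (F : Type*) [Field F] (k : ℕ) : Submodule F (Fin (n + 1) → F) where
  carrier := {v | ∀ i : Fin (n + 1), k ≤ i.val → v i = 0}
  add_mem' := by
    intro v w hv hw i hi
    rw [Pi.add_apply, hv i hi, hw i hi, add_zero]
  zero_mem' := fun i _ => rfl
  smul_mem' := by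
    intro c v hv i hi
    rw [Pi.smul_apply, hv i hi, smul_zero]

theorem mem_Wk {k : ℕ} {v : Fin (n + 1) → F} : v ∈ Wk n F k ↔ ∀ i : Fin (n + 1), k ≤ i.val → v i = 0 := Iff.rfl

theorem single_mem_Wk {k : ℕ} {i : Fin (n + 1)} {c : F} (hc : c ≠ 0) :
    (Pi.single i c : Fin (n + 1) → F) ∈ Wk n F k ↔ i.val < k := by
  rw [mem_Wk]
  constructor
  · intro h
    by_contra hcon
    have := h i (by omega)
    rw [Pi.single_eq_same] at this
    exact hc this
  · intro h j hj
    rw [Pi.single_eq_of_ne]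
    rintro rfl
    omega

theorem finrank_Wk {k : ℕ} (hk : k ≤ n + 1) : finrank F (Wk n F k) = k := by
  let e : Wk n F k ≃ₗ[F] (Fin k → F) :=
    { toFun := fun v i => v.1 ⟨i, by omega⟩
      map_add' := fun _ _ => rfl
      map_smul' := fun _ _ => rfl
      invFun := fun w => ⟨fun i => if h : i.val < k then w ⟨i, h⟩ else 0, by
        intro i hi
        simp only
        rw [dif_neg (by omega)]⟩
      left_inv := by
        intro v
        apply Subtype.ext
        funext i
        simp only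
        split_ifs with h
        · rfl
        · exact (v.2 i (by omega)).symm
      right_inv := by
        intro w
        funext i
        simp only
        rw [dif_pos i.2] }
  rw [e.finrank_eq, finrank_fintype_fun_eq_card, Fintype.card_fin]

theorem smul_def' (g : SpecialLinearGroup (Fin (n + 1)) F) (v : Fin (n + 1) → F) : g • v = g.1 *ᵥ v := rfl

theorem smul_eq_map (g : SpecialLinearGroup (Fin (n + 1)) F) (Y : Submodule F (Fin (n + 1) → F)) :
    g • Y = Y.map (Matrix.toLin' g.1) := by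
  ext v
  rw [Submodule.mem_smul_pointwise_iff_exists, Submodule.mem_map]
  rfl

theorem finrank_smul (g : SpecialLinearGroup (Fin (n + 1)) F) (Y : Submodule F (Fin (n + 1) → F)) :
    finrank F (g • Y : Submodule F (Fin (n + 1) → F)) = finrank F Y := by
  rw [smul_eq_map]
  have hinj : Function.Injective (Matrix.toLin' g.1) := by
    intro v w hvw
    have h1 : (g⁻¹ * g) • v = (g⁻¹ * g) • w := by
      rw [mul_smul, mul_smul]
      exact congrArg (fun x => g⁻¹ • x) hvw
    rwa [inv_mul_cancel, one_smul, one_smul] at h1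
  exact (Submodule.equivMapOfInjective _ hinj Y).symm.finrank_eq

/-- diagonal scaling of the last coordinate -/
theorem exists_smul_eq {k : ℕ} (hk : k ≤ n) {Y : Submodule F (Fin (n + 1) → F)} (hY : finrank F Y = k) :
    ∃ g : SpecialLinearGroup (Fin (n + 1)) F, g • Wk n F k = Y := by
  obtain ⟨C, hC⟩ := Submodule.exists_isCompl (Wk n F k)
  obtain ⟨C', hC'⟩ := Submodule.exists_isCompl Y
  have h1 : finrank F (Wk n F k) = finrank F Y := by rw [finrank_Wk (by omega), hY]
  have h2 : finrank F C = finrank F C' := by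
    have h3 := Submodule.finrank_add_eq_of_isCompl hC
    have h4 := Submodule.finrank_add_eq_of_isCompl hC'
    omega
  let e1 : Wk n F k ≃ₗ[F] Y := LinearEquiv.ofFinrankEq _ _ h1
  let e2 : C ≃ₗ[F] C' := LinearEquiv.ofFinrankEq _ _ h2
  let f : (Fin (n + 1) → F) ≃ₗ[F] (Fin (n + 1) → F) :=
    (Submodule.prodEquivOfIsCompl _ _ hC).symm ≪≫ₗ (e1.prodCongr e2) ≪≫ₗ Submodule.prodEquivOfIsCompl _ _ hC'
  have hf : ∀ v ∈ Wk n F k, f v ∈ Y := by
    intro v hv
    have h3 : (Submodule.prodEquivOfIsCompl _ _ hC).symm v = (⟨v, hv⟩, 0) :=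
      (LinearEquiv.symm_apply_eq _).mpr (by simp)
    have h4 : f v = (e1 ⟨v, hv⟩ : Fin (n + 1) → F) := by
      change Submodule.prodEquivOfIsCompl _ _ hC' ((e1.prodCongr e2) ((Submodule.prodEquivOfIsCompl _ _ hC).symm v)) = _
      rw [h3]
      simp
    rw [h4]
    exact (e1 ⟨v, hv⟩).2
  let c : F := LinearMap.det (f : (Fin (n + 1) → F) →ₗ[F] (Fin (n + 1) → F))
  have hc : c ≠ 0 := (LinearEquiv.isUnit_det' f).ne_zero
  let d : Fin (n + 1) → F := fun i => if i = Fin.last n then c⁻¹ else 1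
  have hd : (Matrix.diagonal d).det = c⁻¹ := by
    rw [Matrix.det_diagonal, Finset.prod_eq_single (Fin.last n)]
    · simp [d]
    · intro i _ hi
      simp [d, hi]
    · intro h
      exact absurd (Finset.mem_univ _) h
  let g : SpecialLinearGroup (Fin (n + 1)) F :=
    ⟨LinearMap.toMatrix' (f : (Fin (n + 1) → F) →ₗ[F] (Fin (n + 1) → F)) * Matrix.diagonal d, by
      rw [Matrix.det_mul, hd, LinearMap.det_toMatrix']
      exact mul_inv_cancel₀ hc⟩
  refine ⟨g, ?_⟩
  have h5 : g • Wk n F k ≤ Y := by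
    intro v hv
    obtain ⟨w, hw, rfl⟩ := (Submodule.mem_smul_pointwise_iff_exists _ _ _).mp hv
    rw [smul_def']
    change (LinearMap.toMatrix' (f : (Fin (n + 1) → F) →ₗ[F] (Fin (n + 1) → F)) * Matrix.diagonal d) *ᵥ w ∈ Y
    rw [← Matrix.mulVec_mulVec, LinearMap.toMatrix'_mulVec]
    apply hf
    intro i hi
    rw [Matrix.mulVec_diagonal, hw i hi, mul_zero]
  apply Submodule.eq_of_le_of_finrank_eq h5
  rw [finrank_smul, finrank_Wk (by omega), hY]

/-- **The index of the stabiliser of `Wk k`.** -/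
theorem index_stab [Fintype F] {k : ℕ} (hk : k ≤ n) :
    (MulAction.stabilizer (SpecialLinearGroup (Fin (n + 1)) F) (Wk n F k)).index *
      ∏ i : Fin k, (Fintype.card F ^ k - Fintype.card F ^ (i : ℕ)) =
      ∏ i : Fin k, (Fintype.card F ^ (n + 1) - Fintype.card F ^ (i : ℕ)) := by
  have h1 := Cfsg.Agent.ClassicalGeometry.SubspaceFrames.card_subspaces_mul (F := F) (V := Fin (n + 1) → F) k
    (fun _ => True)
  have h2 : Nat.card {b : Fin k → (Fin (n + 1) → F) // LinearIndependent F b ∧ True} =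
      ∏ i : Fin k, (Fintype.card F ^ (n + 1) - Fintype.card F ^ (i : ℕ)) := by
    have h3 := card_linearIndependent (K := F) (V := Fin (n + 1) → F) (k := k) (by
      rw [finrank_fintype_fun_eq_card, Fintype.card_fin]; omega)
    rw [finrank_fintype_fun_eq_card, Fintype.card_fin] at h3
    rw [← h3]
    exact Nat.card_congr (Equiv.subtypeEquivRight fun b => by simp)
  rw [h2] at h1
  rw [← h1]
  congr 1
  rw [MulAction.index_stabilizer, ← Nat.card_coe_set_eq]
  refine Nat.card_congr (Equiv.subtypeEquivRight fun Y => ?_)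
  rw [MulAction.mem_orbit_iff]
  constructor
  · rintro ⟨g, rfl⟩
    exact ⟨by rw [finrank_smul, finrank_Wk (by omega)], trivial⟩
  · rintro ⟨h, -⟩
    exact exists_smul_eq hk h

/-! ### The elements of the root group datum -/

open Cfsg.Agent.Nodes.RGDTypeA (tv_val T X XX mem_XX pr ns mono_ns Mono X_rtA ker_pr)
open Cfsg.Agent.TitsThree.KSideA (tv)

theorem mem_stab_iff {g : SpecialLinearGroup (Fin (n + 1)) F} {Y : Submodule F (Fin (n + 1) → F)} :
    g ∈ MulAction.stabilizer (SpecialLinearGroup (Fin (n + 1)) F) Y ↔ ∀ v ∈ Y, g • v ∈ Y := by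
  rw [MulAction.mem_stabilizer_iff]
  constructor
  · intro h v hv
    rw [← h]
    exact Submodule.smul_mem_pointwise_smul _ _ _ hv
  · intro h
    refine Submodule.eq_of_le_of_finrank_eq ?_ (finrank_smul g Y)
    intro v hv
    obtain ⟨w, hw, rfl⟩ := (Submodule.mem_smul_pointwise_iff_exists _ _ _).mp hv
    exact h w hw

theorem mem_stab_Wk_iff {g : SpecialLinearGroup (Fin (n + 1)) F} {k : ℕ} :
    g ∈ MulAction.stabilizer (SpecialLinearGroup (Fin (n + 1)) F) (Wk n F k) ↔
      ∀ i j : Fin (n + 1), k ≤ i.val → j.val < k → g.1 i j = 0 := by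
  rw [mem_stab_iff]
  constructor
  · intro h i j hi hj
    have h1 := h (Pi.single j 1) ((single_mem_Wk one_ne_zero).mpr hj) i hi
    rw [smul_def', Matrix.mulVec_single_one] at h1
    exact h1
  · intro h v hv i hi
    rw [smul_def', Matrix.mulVec, dotProduct]
    refine Finset.sum_eq_zero fun j _ => ?_
    by_cases hj : j.val < k
    · rw [h i j hi hj, zero_mul]
    · rw [hv j (by omega), mul_zero]

theorem T_le_stab (k : ℕ) : T (Fin (n + 1)) F ≤ MulAction.stabilizer (SpecialLinearGroup (Fin (n + 1)) F) (Wk n F k) := by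
  intro g hg
  rw [mem_stab_Wk_iff]
  intro i j hi hj
  by_contra hne
  have := hg i j hne
  rw [Equiv.Perm.one_apply] at this
  subst this
  omega

theorem XX_le_stab {a b : Fin (n + 1)} (hab : a < b) (k : ℕ) :
    XX F a b ≤ MulAction.stabilizer (SpecialLinearGroup (Fin (n + 1)) F) (Wk n F k) := by
  rintro _ ⟨t, rfl⟩
  rw [mem_stab_Wk_iff]
  intro i j hi hj
  rw [tv_val hab.ne, Matrix.add_apply, Matrix.one_apply, Matrix.single_apply, if_neg, if_neg, add_zero]
  · rintro ⟨rfl, rfl⟩
    have := Fin.lt_def.mp hab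
    omega
  · rintro rfl
    omega

theorem center_le_stab (Y : Submodule F (Fin (n + 1) → F)) :
    Subgroup.center (SpecialLinearGroup (Fin (n + 1)) F) ≤
      MulAction.stabilizer (SpecialLinearGroup (Fin (n + 1)) F) Y := by
  intro g hg
  obtain ⟨r, -, hr⟩ := Matrix.SpecialLinearGroup.mem_center_iff.mp hg
  rw [mem_stab_iff]
  intro v hv
  rw [smul_def', ← hr]
  change (Matrix.scalar (Fin (n + 1)) r) *ᵥ v ∈ Y
  rw [Matrix.scalar_apply, ← Matrix.smul_one_eq_diagonal, Matrix.smul_mulVec, Matrix.one_mulVec]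
  exact Y.smul_mem r hv

theorem ns_mem_stab_iff {k : ℕ} {i : Fin n} :
    ns n F i ∈ MulAction.stabilizer (SpecialLinearGroup (Fin (n + 1)) F) (Wk n F k) ↔ i.val + 1 ≠ k := by
  have hm := mono_ns (F := F) i
  rw [mem_stab_Wk_iff]
  constructor
  · intro h e
    have h1 := h i.succ i.castSucc (by rw [Fin.val_succ]; omega) (by rw [Fin.val_castSucc]; omega)
    have h2 := hm.apply_ne_zero i.castSucc
    rw [Equiv.swap_apply_left] at h2
    exact h2 h1
  · intro hk a b ha hb
    by_contra hne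
    have h1 := hm a b hne
    have h2 : (a : ℕ) = if b.val = i.val then i.val + 1 else if b.val = i.val + 1 then i.val else b.val := by
      rw [h1]
      exact Cfsg.Agent.Nodes.RootsA.swap_val i b
    split_ifs at h2 <;> omega

/-! ### Parabolic subgroups -/

open CoxeterSystem Cfsg.Agent.ChevalleyStructure.CoxeterGeom Cfsg.Agent.Tits.Roots Cfsg.Agent.Tits.Core
  Cfsg.Agent.Tits.Exchange Cfsg.Agent.Nodes.Reps Cfsg.Agent.Nodes.BNOf Cfsg.Agent.Nodes.StabComb
  Cfsg.Agent.Nodes.Bruhat Cfsg.Agent.Nodes.OppDec Cfsg.Agent.Nodes.LeviDec Cfsg.Agent.Nodes.NormalForm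
  Cfsg.Agent.KFacts.RgdOpp Cfsg.Agent.H554.RG
open Cfsg.Agent.LieRecognition.BNCox (cA cA_apply)
open Cfsg.Agent.Nodes.RootsA

variable {W : Type*} [Group W] (cs : CoxeterSystem (cA n) W)

theorem GG_psl : GG cs (isCartan n) ((T (Fin (n + 1)) F).map (pr n F)) (fun x => (X F x).map (pr n F)) = ⊤ := by
  rw [eq_top_iff, ← Cfsg.Agent.Nodes.RGDTypeA.G1_psl_eq_top cs (isCartan n)]
  exact RGD.Sup_le fun x hx => X_le_GG (X := fun x => (X F x).map (pr n F)) hx

theorem B_le_stab (k : ℕ) : RGD.B cs (isCartan n) ((T (Fin (n + 1)) F).map (pr n F)) (fun x => (X F x).map (pr n F)) ≤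
    (MulAction.stabilizer (SpecialLinearGroup (Fin (n + 1)) F) (Wk n F k)).map (pr n F) := by
  refine sup_le (Subgroup.map_mono (T_le_stab k)) (RGD.Sup_le ?_)
  rintro x ⟨hx, hx0⟩
  obtain ⟨a, b, hab, rfl⟩ := exists_of_isRoot cs (isCartan n) hx
  refine Subgroup.map_mono ?_
  rw [X_rtA hab]
  exact XX_le_stab (lt_of_le_of_ne (rtA_nonneg_iff.mp hx0) hab) k

/-- **The maximal parabolic subgroups.** -/
theorem PJ_eq [Finite W] [Finite F] {p : ℕ} [Fact p.Prime] [CharP F p] (i : Fin n) :
    PJ cs (isCartan n) ((T (Fin (n + 1)) F).map (pr n F)) (fun x => (X F x).map (pr n F)) {i}ᶜ =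
      (MulAction.stabilizer (SpecialLinearGroup (Fin (n + 1)) F) (Wk n F (i.val + 1))).map (pr n F) := by
  have R := Cfsg.Agent.Nodes.RGDTypeA.rgd_psl (F := F) (p := p) cs (isCartan n)
  rw [eq_PJ R (GG_psl cs) (B_le_stab cs (i.val + 1))]
  congr 1
  ext j
  have h1 : pr n F (ns n F j) ∈
      (MulAction.stabilizer (SpecialLinearGroup (Fin (n + 1)) F) (Wk n F (i.val + 1))).map (pr n F) ↔
      ns n F j ∈ MulAction.stabilizer (SpecialLinearGroup (Fin (n + 1)) F) (Wk n F (i.val + 1)) := by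
    constructor
    · rintro ⟨s, hs, e⟩
      have h2 : s⁻¹ * ns n F j ∈ (pr n F).ker := by
        rw [MonoidHom.mem_ker, map_mul, map_inv, e, inv_mul_cancel]
      rw [ker_pr] at h2
      have h3 := mul_mem hs (center_le_stab _ h2)
      rwa [mul_inv_cancel_left] at h3
    · exact fun h => ⟨_, h, rfl⟩
  simp only [Set.mem_compl_iff, Set.mem_singleton_iff, Set.mem_ofPred_eq]
  rw [h1, ns_mem_stab_iff]
  constructor
  · intro hj e
    apply hj
    apply Fin.ext
    omega
  · intro hj e
    apply hj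
    rw [e]

theorem index_PJ_compl [Finite W] [Fintype F] {p : ℕ} [Fact p.Prime] [CharP F p] (i : Fin n) :
    (PJ cs (isCartan n) ((T (Fin (n + 1)) F).map (pr n F)) (fun x => (X F x).map (pr n F)) {i}ᶜ).index *
      ∏ j : Fin (i.val + 1), (Fintype.card F ^ (i.val + 1) - Fintype.card F ^ (j : ℕ)) =
      ∏ j : Fin (i.val + 1), (Fintype.card F ^ (n + 1) - Fintype.card F ^ (j : ℕ)) := by
  rw [PJ_eq cs (p := p) i, Subgroup.index_map_eq _ Cfsg.Agent.Nodes.RGDTypeA.pr_surjective
    (ker_pr.le.trans (center_le_stab _))]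
  exact index_stab (by omega)

/-- Subgroups of conjugates of maximal parabolic subgroups are reducible. -/
theorem exists_submodule [Finite W] [Finite F] {p : ℕ} [Fact p.Prime] [CharP F p] {i : Fin n}
    {M₀ : Subgroup (ProjectiveSpecialLinearGroup (Fin (n + 1)) F)} {g : ProjectiveSpecialLinearGroup (Fin (n + 1)) F}
    (hM : M₀.map (MulAut.conj g).toMonoidHom ≤
      PJ cs (isCartan n) ((T (Fin (n + 1)) F).map (pr n F)) (fun x => (X F x).map (pr n F)) {i}ᶜ) :
    ∃ Y : Submodule F (Fin (n + 1) → F), Y ≠ ⊥ ∧ Y ≠ ⊤ ∧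
      ∀ x : SpecialLinearGroup (Fin (n + 1)) F, pr n F x ∈ M₀ → ∀ v ∈ Y, x • v ∈ Y := by
  obtain ⟨g, rfl⟩ := Cfsg.Agent.Nodes.RGDTypeA.pr_surjective g
  rw [PJ_eq cs (p := p) i] at hM
  have hfin : finrank F (g⁻¹ • Wk n F (i.val + 1) : Submodule F (Fin (n + 1) → F)) = i.val + 1 := by
    rw [finrank_smul, finrank_Wk (by omega)]
  refine ⟨g⁻¹ • Wk n F (i.val + 1), ?_, ?_, ?_⟩
  · intro h
    rw [h, finrank_bot] at hfin
    omega
  · intro h
    rw [h, finrank_top, finrank_fintype_fun_eq_card, Fintype.card_fin] at hfin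
    have := i.2
    omega
  · intro x hx
    rw [← mem_stab_iff]
    have h1 := hM (Subgroup.mem_map_of_mem _ hx)
    have h2 : (MulAut.conj (pr n F g)).toMonoidHom (pr n F x) = pr n F (g * x * g⁻¹) := by
      rw [map_mul, map_mul, map_inv]
      rfl
    rw [h2] at h1
    obtain ⟨s, hs, e⟩ := h1
    have h3 : s⁻¹ * (g * x * g⁻¹) ∈ (pr n F).ker := by
      rw [MonoidHom.mem_ker, map_mul, map_inv, e, inv_mul_cancel]
    rw [ker_pr] at h3
    have h4 := mul_mem hs (center_le_stab _ h3)
    rw [mul_inv_cancel_left, MulAction.mem_stabilizer_iff, mul_smul, mul_smul] at h4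
    rw [MulAction.mem_stabilizer_iff]
    rw [smul_eq_iff_eq_inv_smul] at h4
    exact h4

/-! ### Root groups and orders -/

theorem card_XX [Finite F] {a b : Fin (n + 1)} (hab : a ≠ b) : Nat.card (XX F a b) = Nat.card F := by
  symm
  refine Nat.card_congr (Equiv.ofBijective (fun t : F => (⟨tv a b t, t, rfl⟩ : XX F a b)) ⟨?_, ?_⟩)
  · intro s t e
    exact Cfsg.Agent.Nodes.RGDTypeA.tv_inj hab (congrArg Subtype.val e)
  · rintro ⟨_, t, rfl⟩
    exact ⟨t, rfl⟩

theorem card_X [Finite W] [Finite F] {p : ℕ} [Fact p.Prime] [CharP F p] {x : Fin n → ℤ}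
    (hx : IsRoot cs (isCartan n) x) : Nat.card ↥((X F x).map (pr n F)) = Nat.card F := by
  have R := Cfsg.Agent.Nodes.RGDTypeA.rgd (F := F) (p := p) cs (isCartan n)
  have h1 := Cfsg.Agent.Nodes.CardSup.card_map_X R (pr n F) ker_pr.le hx
  refine h1.trans ?_
  obtain ⟨a, b, hab, rfl⟩ := exists_of_isRoot cs (isCartan n) hx
  rw [X_rtA hab, card_XX hab]

/-- the highest root -/
theorem exists_dom (hn : 1 ≤ n) : ∃ r : Fin n → ℤ, IsRoot cs (isCartan n) r ∧ Dom (AA n) r ∧
    ∀ i : Fin n, i.val ≠ 0 → i.val ≠ n - 1 → i ∈ orth cs (isCartan n) r := by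
  have h0 : (0 : Fin (n + 1)) ≠ Fin.last n := by
    intro e
    have := congrArg Fin.val e
    simp at this
    omega
  have key : ∀ i : Fin n, pairing (AA n) i (rtA (0 : Fin (n + 1)) (Fin.last n)) =
      (if i.val = 0 then 1 else 0) + (if i.val + 1 = n then 1 else 0) := by
    intro i
    have h1 := pairing_eq (isCartan n) i (fun k => if k < n then 1 else 0) (by simp)
    have h2 : (rtA (0 : Fin (n + 1)) (Fin.last n) : Fin n → ℤ) = fun k : Fin n => if k.val < n then 1 else 0 := by
      funext k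
      rw [rtA_apply]
      have := k.2
      simp
    rw [h2, h1]
    have := i.2
    split_ifs <;> omega
  refine ⟨rtA 0 (Fin.last n), isRoot_rtA cs (isCartan n) h0, ?_, ?_⟩
  · intro i
    rw [key]
    split_ifs <;> norm_num
  · intro i h1 h2
    rw [mem_orth, key, if_neg h1, if_neg (by omega)]
    rfl

end Cfsg.Agent.H554.SLSub
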