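import Mathlib
import Cfsg.Agent.H554.SizeC
import Cfsg.Agent.H554.RGNo
import Cfsg.Agent.LieClassical.OrthFinite
import Cfsg.Prelude.Def_LieTypeChar

/-!
# No Hall systems: classical groups with root group data of type `C_n` (helper554)

`PSp_{2m}(q)` and `PΩ_{2m+1}(q)` for `m ≥ 3`, `PSU_N(q)` for `N ≥ 4`, `PΩ⁻_{2m}(q)` for `m ≥ 4`.
-/

set_option autoImplicit false
set_option linter.unusedSectionVars false

namespace Cfsg.Agent.H554.LieC

open CoxeterSystem Cfsg.Agent.ChevalleyStructure.CoxeterGeom Cfsg.Agent.Tits.Roots Cfsg.Agent.Nodes.TypeC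
open Cfsg.Agent.Nodes Cfsg.Agent.Nodes.Comb Cfsg.Agent.Nodes.Reps Cfsg.Agent.Nodes.WittRoot Cfsg.Agent.Nodes.BNOf
open Cfsg.Agent.Nodes.WittRGD Cfsg.Agent.Nodes.RGDLib Cfsg.Agent.Nodes.WittAll
open Cfsg.Agent.TitsThree Cfsg.Agent.TitsThree.Siegel Cfsg.Agent.TitsThree.WittFrame
  Cfsg.Agent.TitsThree.WittWeyl Cfsg.Agent.TitsThree.FrameCN
open Cfsg.Agent.Nodes.StabComb Cfsg.Agent.Nodes.Bruhat Cfsg.Agent.H554.SizeC Cfsg.Agent.H554.RG

/-! ### Diagram symmetries -/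

theorem sigma_ne {I : Type*} {M : CoxeterMatrix I} {σ : Equiv.Perm I} (hσ : ∀ a b, M (σ a) (σ b) = M a b)
    {u v a b c : I} (hu : ∀ x, x ≠ u → M x u ≠ 2 → x = c) (hab : a ≠ b) (hav : a ≠ v) (hbv : b ≠ v)
    (h1 : M a v ≠ 2) (h2 : M b v ≠ 2) : σ u ≠ v := by
  intro e
  have key : ∀ y, y ≠ v → M y v ≠ 2 → σ.symm y = c := by
    intro y hy hM
    refine hu _ ?_ ?_
    · intro e'
      apply hy
      rw [← e, ← e', Equiv.apply_symm_apply]
    · rw [← hσ, Equiv.apply_symm_apply, e]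
      exact hM
  apply hab
  have h3 := (key a hav h1).trans (key b hbv h2).symm
  exact σ.symm.injective h3

theorem sigma_ne' {I : Type*} {M : CoxeterMatrix I} {σ : Equiv.Perm I} (hσ : ∀ a b, M (σ a) (σ b) = M a b)
    {u v a b c : I} (hu : ∀ x, x ≠ u → M x u ≠ 2 → x = c) (hab : a ≠ b) (hav : a ≠ v) (hbv : b ≠ v)
    (h1 : M a v ≠ 2) (h2 : M b v ≠ 2) : σ v ≠ u := by
  intro e
  have key : ∀ y, y ≠ v → M y v ≠ 2 → σ y = c := by
    intro y hy hM
    refine hu _ ?_ ?_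
    · intro e'
      exact hy (σ.injective (e'.trans e.symm))
    · rw [← e, hσ]
      exact hM
  apply hab
  exact σ.injective ((key a hav h1).trans (key b hbv h2).symm)

theorem B_ne_two {n : ℕ} {a b : Fin n} (hab : a ≠ b) (h : CoxeterMatrix.B n a b ≠ 2) :
    (a : ℕ) + 1 = b ∨ (b : ℕ) + 1 = a := by
  by_contra hcon
  push Not at hcon
  apply h
  change (if a = b then 1 else (if (a : ℕ) = n - 1 ∧ (b : ℕ) = n - 2 ∨ (b : ℕ) = n - 1 ∧ (a : ℕ) = n - 2 then 4
    else (if (b : ℕ) + 1 = a ∨ (a : ℕ) + 1 = b then 3 else 2))) = 2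
  have h1 : ¬ ((a : ℕ) = n - 1 ∧ (b : ℕ) = n - 2 ∨ (b : ℕ) = n - 1 ∧ (a : ℕ) = n - 2) := by
    have := a.2
    have := b.2
    have := Fin.val_ne_of_ne hab
    omega
  rw [if_neg hab, if_neg h1, if_neg]
  omega

theorem B_ne_two' {n : ℕ} {a b : Fin n} (h : (a : ℕ) + 1 = b) :
    CoxeterMatrix.B n a b ≠ 2 := by
  change (if a = b then 1 else (if (a : ℕ) = n - 1 ∧ (b : ℕ) = n - 2 ∨ (b : ℕ) = n - 1 ∧ (a : ℕ) = n - 2 then 4
    else (if (b : ℕ) + 1 = a ∨ (a : ℕ) + 1 = b then 3 else 2))) ≠ 2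
  have hab : a ≠ b := by
    intro e
    rw [e] at h
    omega
  rw [if_neg hab]
  split_ifs with h1 h2
  · norm_num
  · norm_num
  · omega

/-- the end node is not moved to its neighbour -/
theorem sigma_zero {n : ℕ} (hn : 3 ≤ n) {σ : Equiv.Perm (Fin n)}
    (hσ : ∀ a b, CoxeterMatrix.B n (σ a) (σ b) = CoxeterMatrix.B n a b) :
    σ ⟨0, by omega⟩ ≠ ⟨1, by omega⟩ ∧ σ ⟨1, by omega⟩ ≠ ⟨0, by omega⟩ := by
  have hu : ∀ x : Fin n, x ≠ ⟨0, by omega⟩ → CoxeterMatrix.B n x ⟨0, by omega⟩ ≠ 2 → x = ⟨1, by omega⟩ := by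
    intro x hx hM
    have h1 := B_ne_two hx hM
    apply Fin.ext
    simp only at h1 ⊢
    omega
  have hne : ∀ {i j : ℕ} (hi : i < n) (hj : j < n), i ≠ j → (⟨i, hi⟩ : Fin n) ≠ ⟨j, hj⟩ := by
    intro i j hi hj hij e
    exact hij (congrArg Fin.val e)
  have h01 : CoxeterMatrix.B n ⟨0, by omega⟩ ⟨1, by omega⟩ ≠ 2 := B_ne_two' rfl
  have h21 : CoxeterMatrix.B n ⟨2, by omega⟩ ⟨1, by omega⟩ ≠ 2 := by
    rw [CoxeterMatrix.symmetric]
    exact B_ne_two' rfl
  exact ⟨sigma_ne hσ hu (hne (by omega) (by omega) (by norm_num : (0:ℕ) ≠ 2)) (hne _ _ (by norm_num))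
      (hne _ _ (by norm_num)) h01 h21,
    sigma_ne' hσ hu (hne (by omega) (by omega) (by norm_num : (0:ℕ) ≠ 2)) (hne _ _ (by norm_num))
      (hne _ _ (by norm_num)) h01 h21⟩

/-! ### Dominant roots -/

section Roots

variable {n : ℕ} {W : Type*} [Group W] (cs : CoxeterSystem (CoxeterMatrix.B n) W)

theorem exists_long_dom (hn : 2 ≤ n) : ∃ r : Fin n → ℤ, IsRoot cs (isCartan n) r ∧
    ee r = wt ((⟨0, by omega⟩ : Fin n), true) + wt (⟨0, by omega⟩, true) ∧ Dom (A n) r ∧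
    ∀ i, i ≠ (⟨0, by omega⟩ : Fin n) → i ∈ orth cs (isCartan n) r := by
  obtain ⟨r, hr⟩ := exists_long cs ((⟨0, by omega⟩ : Fin n), true)
  have hCf : ∀ i : Fin n, Cf i (ee r) = if (i : ℕ) = 0 then 2 else 0 := by
    intro i
    rw [hr]
    unfold Cf
    by_cases hi : (i : ℕ) + 1 < n
    · rw [dif_pos hi]
      simp only [Pi.add_apply, wt_apply, Fin.ext_iff, if_true]
      split_ifs <;> first | contradiction | omega
    · rw [dif_neg hi]
      simp only [Pi.add_apply, wt_apply, Fin.ext_iff, if_true]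
      split_ifs <;> first | contradiction | omega
  refine ⟨r, isRoot_iff.2 ⟨_, _, Or.inr rfl, hr⟩, hr, ?_, ?_⟩
  · intro i
    rw [← Cf_ee, hCf]
    split_ifs <;> norm_num
  · intro i hi
    rw [mem_orth, ← Cf_ee, hCf, if_neg]
    intro e
    exact hi (Fin.ext e)

theorem exists_short_dom (hn : 3 ≤ n) : ∃ r : Fin n → ℤ, IsRoot cs (isCartan n) r ∧
    ee r = wt ((⟨0, by omega⟩ : Fin n), true) + wt (⟨1, by omega⟩, true) ∧ Dom (A n) r ∧
    ∀ i, i ≠ (⟨1, by omega⟩ : Fin n) → i ∈ orth cs (isCartan n) r := by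
  obtain ⟨r, hroot, hr⟩ := rt_of_ok (cs := cs) (a := ((⟨0, by omega⟩ : Fin n), true)) (b := ((⟨1, by omega⟩ : Fin n), true))
    (Or.inl (by intro e; have := congrArg Fin.val e; simp at this))
  have hCf : ∀ i : Fin n, Cf i (ee r) = if (i : ℕ) = 1 then 1 else 0 := by
    intro i
    rw [hr]
    unfold Cf
    by_cases hi : (i : ℕ) + 1 < n
    · rw [dif_pos hi]
      simp only [Pi.add_apply, wt_apply, Fin.ext_iff, if_true]
      split_ifs <;> first | contradiction | omega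
    · rw [dif_neg hi]
      simp only [Pi.add_apply, wt_apply, Fin.ext_iff, if_true]
      split_ifs <;> first | contradiction | omega
  refine ⟨r, hroot, hr, ?_, ?_⟩
  · intro i
    rw [← Cf_ee, hCf]
    split_ifs <;> norm_num
  · intro i hi
    rw [mem_orth, ← Cf_ee, hCf, if_neg]
    intro e
    exact hi (Fin.ext e)

end Roots

/-! ### Models -/

section Model

variable {F : Type*} [Field F] {V : Type*} [AddCommGroup V] [Module F V] {H : HForm F V} {n : ℕ}
  {Fr : Frame H (Fin n)} {K : Type*} [Group K] [Finite K] (M : Model Fr K) {p : ℕ} (hA : AmbT Fr p M.I)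

include hA in
theorem sq_eq_one [Finite V] [Fact p.Prime] [CharP F p] {p0 : Fr.Adm} (hp0 : p0.c ≠ 0) {l : ℕ}
    (h1 : ((Nat.card F : ℕ) : ZMod l) ^ 2 = 1) (h2 : ((Nat.card Fr.Adm : ℕ) : ZMod l) ^ 2 = 1) {W : Type*} [Group W]
    (cs : CoxeterSystem (CoxeterMatrix.B n) W) (x : Fin n → ℤ) (hx : IsRoot cs (isCartan n) x) :
    ((Nat.card (WittModel.X M x) : ℕ) : ZMod l) ^ 2 = 1 := by
  obtain ⟨a, b, hab, e⟩ := isRoot_iff.1 hx
  rcases hab with hab | rfl
  · rw [card_short M hA hp0 hab e, h1]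
  · rw [card_long M hA hp0 e, h2]

theorem GG_eq_top (hn : 0 < n) {W : Type*} [Group W] (cs : CoxeterSystem (CoxeterMatrix.B n) W) :
    GG cs (isCartan n) (WittModel.T M) (WittModel.X M) = ⊤ := by
  rw [eq_top_iff, ← WittModel.G1_eq_top M hn cs]
  exact RGD.Sup_le fun x hx => X_le_GG hx

theorem bt_short {i : Fin n} (hi : (i : ℕ) + 1 < n) :
    ee (sr i) = wt (i, true) + wt (⟨(i : ℕ) + 1, hi⟩, false) := by
  rw [ee_sr, bt, nx, dif_pos hi]

theorem bt_long {i : Fin n} (hi : ¬ (i : ℕ) + 1 < n) : ee (sr i) = wt (i, true) + wt (i, true) := by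
  rw [ee_sr, bt, nx, dif_neg hi]

include hA in
/-- `r = 2 ε_0`, `k = 0`, `j = 1`. -/
theorem noHall_long_mid [Finite V] [Fact p.Prime] [CharP F p] {p0 : Fr.Adm} (hp0 : p0.c ≠ 0) (hn : 3 ≤ n) {l : ℕ}
    (hl : l ≠ 1) (h1 : ((Nat.card F : ℕ) : ZMod l) = -1) (h2 : ((Nat.card Fr.Adm : ℕ) : ZMod l) = -1) :
    NoHall K := by
  let cs := (CoxeterMatrix.B n).toCoxeterSystem
  have : Finite (CoxeterMatrix.B n).Group := finite_W cs
  have R := rgdC_model M hA hp0 cs
  obtain ⟨r, hr, er, hd, ho⟩ := exists_long_dom cs (n := n) (by omega)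
  refine noHall_of_root R (GG_eq_top M (by omega) cs) hr hd ⟨0, by omega⟩ ⟨1, by omega⟩ ho ?_ hl ?_ ?_ ?_
  · intro σ hσ _
    exact (sigma_zero hn hσ).1
  · exact sq_eq_one M hA hp0 (by rw [h1]; ring) (by rw [h2]; ring) cs
  · rw [card_long M hA hp0 er, h2]
  · have hi : ((⟨1, by omega⟩ : Fin n) : ℕ) + 1 < n := by simp only; omega
    rw [card_short M hA hp0 ?_ (bt_short hi), h1]
    intro e
    have := congrArg Fin.val e
    simp at this

include hA in
/-- `r = 2 ε_0`, `k = 0`, `j = n - 1`. -/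
theorem noHall_long_end [Finite V] [Fact p.Prime] [CharP F p] {p0 : Fr.Adm} (hp0 : p0.c ≠ 0) (hn : 2 ≤ n) {l : ℕ}
    (hl : l ≠ 1) (h1 : ((Nat.card F : ℕ) : ZMod l) ^ 2 = 1) (h2 : ((Nat.card Fr.Adm : ℕ) : ZMod l) = -1)
    (hne : Nat.card F ≠ Nat.card Fr.Adm) : NoHall K := by
  let cs := (CoxeterMatrix.B n).toCoxeterSystem
  have : Finite (CoxeterMatrix.B n).Group := finite_W cs
  have R := rgdC_model M hA hp0 cs
  obtain ⟨r, hr, er, hd, ho⟩ := exists_long_dom cs (n := n) (by omega)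
  have hi0 : ((⟨0, by omega⟩ : Fin n) : ℕ) + 1 < n := by simp only; omega
  have c0 : Nat.card (WittModel.X M (sr (⟨0, by omega⟩ : Fin n))) = Nat.card F := by
    rw [card_short M hA hp0 ?_ (bt_short hi0)]
    intro e
    have := congrArg Fin.val e
    simp at this
  have hi1 : ¬ ((⟨n - 1, by omega⟩ : Fin n) : ℕ) + 1 < n := by simp only; omega
  have c1 : Nat.card (WittModel.X M (sr (⟨n - 1, by omega⟩ : Fin n))) = Nat.card Fr.Adm := by
    rw [card_long M hA hp0 (bt_long hi1)]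
  refine noHall_of_root R (GG_eq_top M (by omega) cs) hr hd ⟨0, by omega⟩ ⟨n - 1, by omega⟩ ho ?_ hl ?_ ?_ ?_
  · intro σ _ hσ e
    have h3 := hσ ⟨0, by omega⟩
    rw [e, c0, c1] at h3
    exact hne h3.symm
  · exact sq_eq_one M hA hp0 h1 (by rw [h2]; ring) cs
  · rw [card_long M hA hp0 er, h2]
  · rw [c1, h2]

include hA in
/-- `r = ε_0 + ε_1`, `k = 1`, `j = 0`. -/
theorem noHall_short [Finite V] [Fact p.Prime] [CharP F p] {p0 : Fr.Adm} (hp0 : p0.c ≠ 0) (hn : 3 ≤ n) {l : ℕ}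
    (hl : l ≠ 1) (h1 : ((Nat.card F : ℕ) : ZMod l) = -1) (h2 : ((Nat.card Fr.Adm : ℕ) : ZMod l) ^ 2 = 1) :
    NoHall K := by
  let cs := (CoxeterMatrix.B n).toCoxeterSystem
  have : Finite (CoxeterMatrix.B n).Group := finite_W cs
  have R := rgdC_model M hA hp0 cs
  obtain ⟨r, hr, er, hd, ho⟩ := exists_short_dom cs (n := n) (by omega)
  have hne : (⟨0, by omega⟩ : Fin n) ≠ ⟨1, by omega⟩ := by
    intro e; have := congrArg Fin.val e; simp at this
  refine noHall_of_root R (GG_eq_top M (by omega) cs) hr hd ⟨1, by omega⟩ ⟨0, by omega⟩ ho ?_ hl ?_ ?_ ?_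
  · intro σ hσ _
    exact (sigma_zero hn hσ).2
  · exact sq_eq_one M hA hp0 (by rw [h1]; ring) h2 cs
  · rw [card_short M hA hp0 hne er, h1]
  · have hi : ((⟨0, by omega⟩ : Fin n) : ℕ) + 1 < n := by simp only; omega
    rw [card_short M hA hp0 ?_ (bt_short hi), h1]
    intro e
    have := congrArg Fin.val e
    simp at this

end Model

/-! ### The groups -/

open Cfsg

theorem cast_neg_one (q : ℕ) : ((q : ℕ) : ZMod (q + 1)) = -1 := by
  rw [eq_neg_iff_add_eq_zero]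
  have := ZMod.natCast_self (q + 1)
  rwa [Nat.cast_add, Nat.cast_one] at this

theorem noHall_PSp {F : Type*} [Field F] [Finite F] {m : ℕ} (hm : 3 ≤ m) : NoHall (PSp m F) := by
  obtain ⟨p, hp⟩ := CharP.exists F
  have : Fact p.Prime := ⟨CharP.char_is_prime F p⟩
  have h1 := cast_neg_one (Nat.card F)
  refine noHall_long_mid (KInstSp.model m F) (AmbT.of_amb WittU.amb_Sp p) (p0 := SpIdent.adm 1) one_ne_zero hm
    (l := Nat.card F + 1) ?_ h1 ?_
  · have := Finite.one_lt_card (α := F)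
    omega
  · rw [card_adm_Sp, h1]

theorem noHall_PSU {F : Type*} [Field F] [Fintype F] {q N : ℕ} (hF : Fintype.card F = q ^ 2) (hN : 4 ≤ N) :
    NoHall (PSU N F q) := by
  obtain ⟨p, hp⟩ := CharP.exists F
  have : Fact p.Prime := ⟨CharP.char_is_prime F p⟩
  obtain ⟨m, hm⟩ : ∃ m, N = 2 * m ∨ N = 2 * m + 1 := ⟨N / 2, by omega⟩
  obtain ⟨W, -⟩ := WittU.exists_wframe hF hm
  obtain ⟨p0, hp0, -⟩ := WittU.exists_adm hF W
  have hq := LieClassical.HermBasic.two_le hF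
  have h1 := cast_neg_one q
  have h2 : ((Nat.card F : ℕ) : ZMod (q + 1)) ^ 2 = 1 := by
    rw [Nat.card_eq_fintype_card, hF, Nat.cast_pow, h1]; ring
  rcases hm with hm | hm
  · have h3 := card_adm_U_even hF W hm
    refine noHall_long_end (KInstU.model hF (by omega) W) (AmbT.of_amb (WittU.amb_U hF W) p) hp0 (by omega)
      (l := q + 1) (by omega) h2 (by rw [h3, h1]) ?_
    rw [h3, Nat.card_eq_fintype_card, hF]
    nlinarith
  · have h3 := card_adm_U_odd hF W hm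
    refine noHall_long_end (KInstU.model hF (by omega) W) (AmbT.of_amb (WittU.amb_U hF W) p) hp0 (by omega)
      (l := q + 1) (by omega) h2 (by rw [h3, Nat.cast_pow, h1]; ring) ?_
    rw [h3, Nat.card_eq_fintype_card, hF]
    intro e
    have := Nat.pow_right_injective hq e
    omega

section Orthogonal

open QuadraticMap
open Cfsg.Agent.LieClassical Cfsg.Agent.LieClassical.OrthCore Cfsg.Agent.LieClassical.OrthTrans
open Cfsg.Agent.LieClassical.OrthSimple Cfsg.Agent.LieClassical.OrthFinite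
open Cfsg.Agent.LieClassical.OrthForms
open Cfsg.Agent.TitsThree.KSideO Cfsg.Agent.TitsThree.StdData Cfsg.Agent.TitsThree.SiegelGen
  Cfsg.Agent.TitsThree.WBridge Cfsg.Agent.Nodes.WittInst

theorem noHall_PO_odd {F : Type*} [Field F] [Finite F] {m : ℕ} (h2 : (2 : F) ≠ 0) (hm : 3 ≤ m) :
    NoHall (Cfsg.POmega F (Cfsg.quadFormOdd m F)) := by
  obtain ⟨p, hp⟩ := CharP.exists F
  have : Fact p.Prime := ⟨CharP.char_is_prime F p⟩
  rw [← coe_oddForm]
  have hG : Good (oddForm m F) := by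
    apply good_of_finite (nondeg_oddForm m F h2)
    rw [Module.finrank_fintype_fun_eq_card, Fintype.card_sum, Fintype.card_sum, Fintype.card_fin,
      Fintype.card_unit]
    omega
  have hp : ((embOdd m F).ngt ⟨1, -1 ^ 2, rfl⟩).c ≠ 0 := by
    change (1 : F)⁻¹ * (-1 ^ 2) ≠ 0
    simp
  have h1 := cast_neg_one (Nat.card F)
  refine noHall_long_mid (model (wodd m F) hG ⟨_, hp⟩) (AmbT.of_amb (amb_O_of_two _ h2) p) hp hm
    (l := Nat.card F + 1) ?_ h1 ?_
  · have := Finite.one_lt_card (α := F)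
    omega
  · have h3 := card_V0 (wodd m F)
    have h4 : Nat.card (Unit ⊕ Fin m ⊕ Fin m → F) = Nat.card F ^ m * Nat.card F ^ m * Nat.card F := by
      rw [Nat.card_fun, Nat.card_eq_fintype_card (α := Unit ⊕ Fin m ⊕ Fin m), Fintype.card_sum, Fintype.card_sum,
        Fintype.card_fin, Fintype.card_unit, pow_add, pow_add, pow_one]
      ring
    rw [h4] at h3
    have h5 : 0 < Nat.card F ^ m * Nat.card F ^ m := by
      have := Nat.card_pos (α := F)
      positivity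
    rw [card_adm_O, Nat.eq_of_mul_eq_mul_left h5 h3, h1]

theorem noHall_PO_minus {F : Type*} [Field F] [Finite F] {m : ℕ} (a b : F)
    (hab : ∀ z₁ z₂ : F, z₁ ^ 2 + a * z₁ * z₂ + b * z₂ ^ 2 = 0 → z₁ = 0 ∧ z₂ = 0)
    (hm : 3 ≤ m) : NoHall (Cfsg.POmega F (Cfsg.quadFormMinus m F a b)) := by
  obtain ⟨p, hp⟩ := CharP.exists F
  have : Fact p.Prime := ⟨CharP.char_is_prime F p⟩
  rw [← coe_minusForm]
  have hG : Good (minusForm m F a b) := by
    apply good_of_finite (nondeg_minusForm m F a b hab)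
    rw [Module.finrank_fintype_fun_eq_card, Fintype.card_sum, Fintype.card_sum, Fintype.card_fin,
      Fintype.card_fin]
    omega
  have hp : ((embMinus m F a b hab).ngt ⟨(1, 0), -nf a b (1, 0), rfl⟩).c ≠ 0 := by
    change (1 : F)⁻¹ * (-nf a b (1, 0)) ≠ 0
    simp [nf]
  have hA : AmbT (toFrame (wminus m F a b hab)) p (E (minusForm m F a b)) := by
    by_cases h2 : (2 : F) = 0
    · have hp2 : p = 2 := by
        have h3 : CharP F 2 := CharTwo.of_one_ne_zero_of_two_eq_zero one_ne_zero h2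
        exact CharP.eq F ‹CharP F p› h3
      subst hp2
      exact ambT_O _ fun g hg hg2 hb => fixp_minus a b hab h2 (by omega) hG hg hg2 hb
    · exact AmbT.of_amb (amb_O_of_two _ h2) p
  have h1 := cast_neg_one (Nat.card F)
  refine noHall_short (model (wminus m F a b hab) hG ⟨_, hp⟩) hA hp hm (l := Nat.card F + 1) ?_ h1 ?_
  · have := Finite.one_lt_card (α := F)
    omega
  · have h3 := card_V0 (wminus m F a b hab)
    have h4 : Nat.card ((Fin m ⊕ Fin m) ⊕ Fin 2 → F) = Nat.card F ^ m * Nat.card F ^ m * Nat.card F ^ 2 := by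
      rw [Nat.card_fun, Nat.card_eq_fintype_card (α := (Fin m ⊕ Fin m) ⊕ Fin 2), Fintype.card_sum, Fintype.card_sum,
        Fintype.card_fin, Fintype.card_fin, pow_add, pow_add]
    rw [h4] at h3
    have h5 : 0 < Nat.card F ^ m * Nat.card F ^ m := by
      have := Nat.card_pos (α := F)
      positivity
    rw [card_adm_O, Nat.eq_of_mul_eq_mul_left h5 h3, Nat.cast_pow, h1]
    ring

end Orthogonal

end Cfsg.Agent.H554.LieC
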