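import Mathlib
import Cfsg.Agent.H554.LieC
import Cfsg.Agent.KFacts.SLRow.OmegaPlus

/-!
# No Hall systems: `PΩ⁺_{2m}(q)`, `m ≥ 4` (helper554)
-/

set_option autoImplicit false
set_option linter.unusedSectionVars false

namespace Cfsg.Agent.H554.LieD

open CoxeterSystem Cfsg.Agent.ChevalleyStructure.CoxeterGeom Cfsg.Agent.Tits.Roots
open Cfsg.Agent.Nodes.TypeC (wt ng ng_ng ng_fst wt_ng wt_apply)
open Cfsg.Agent.Nodes.TypeD
open Cfsg.Agent.Nodes Cfsg.Agent.Nodes.Comb Cfsg.Agent.Nodes.Reps Cfsg.Agent.Nodes.BNOf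
open Cfsg.Agent.Nodes.RGDLib Cfsg.Agent.Nodes.WittInst
open Cfsg.Agent.Nodes.StabComb Cfsg.Agent.Nodes.Bruhat Cfsg.Agent.H554.RG
open Cfsg.Agent.KFacts.SLRow.OmegaPlus Cfsg.Agent.LieClassical.OrthForms
open Cfsg.Agent.TitsThree.KSideO Cfsg.Agent.TitsThree.StdData Cfsg.Agent.LieClassical.OrthSimple
  Cfsg.Agent.LieClassical.OrthFinite

theorem M_ne_two {n : ℕ} {a b : Fin (n + 2)} (hab : a ≠ b) (h : M n a b ≠ 2) : Cfsg.Agent.Nodes.TypeD.Adj a b ∨ Cfsg.Agent.Nodes.TypeD.Adj b a := by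
  by_contra hcon
  apply h
  rw [M_apply, if_neg hab, if_neg hcon]

theorem M_ne_two' {n : ℕ} {a b : Fin (n + 2)} (hab : a ≠ b) (h : Cfsg.Agent.Nodes.TypeD.Adj a b ∨ Cfsg.Agent.Nodes.TypeD.Adj b a) : M n a b ≠ 2 := by
  rw [M_apply, if_neg hab, if_pos h]
  norm_num

theorem sigma_one {n : ℕ} (hn : 2 ≤ n) {σ : Equiv.Perm (Fin (n + 2))}
    (hσ : ∀ a b, M n (σ a) (σ b) = M n a b) : σ ⟨1, by omega⟩ ≠ ⟨0, by omega⟩ := by
  have hne : ∀ {i j : ℕ} (hi : i < n + 2) (hj : j < n + 2), i ≠ j → (⟨i, hi⟩ : Fin (n + 2)) ≠ ⟨j, hj⟩ := by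
    intro i j hi hj hij e
    exact hij (congrArg Fin.val e)
  refine LieC.sigma_ne' hσ (u := ⟨0, by omega⟩) (v := ⟨1, by omega⟩) (a := ⟨0, by omega⟩) (b := ⟨2, by omega⟩)
    (c := ⟨1, by omega⟩) ?_ (hne _ _ (by norm_num)) (hne _ _ (by norm_num)) (hne _ _ (by norm_num)) ?_ ?_
  · intro x hx hM
    have h1 := M_ne_two hx hM
    unfold Cfsg.Agent.Nodes.TypeD.Adj at h1
    apply Fin.ext
    simp only at h1 ⊢
    omega
  · apply M_ne_two' (hne _ _ (by norm_num))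
    left; left
    exact ⟨by simp only; omega, rfl⟩
  · apply M_ne_two' (hne _ _ (by norm_num))
    right; left
    exact ⟨by simp only; omega, rfl⟩

theorem exists_dom {n : ℕ} (hn : 2 ≤ n) {W : Type*} [Group W] (cs : CoxeterSystem (M n) W) :
    ∃ r : Fin (n + 2) → ℤ, IsRoot cs (isCartan n) r ∧ Dom (A n) r ∧
      ∀ i, i ≠ (⟨1, by omega⟩ : Fin (n + 2)) → i ∈ orth cs (isCartan n) r := by
  obtain ⟨r, hroot, hr⟩ := rt_of_ok (cs := cs) (a := ((⟨0, by omega⟩ : Fin (n + 2)), true))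
    (b := ((⟨1, by omega⟩ : Fin (n + 2)), true)) (by intro e; have := congrArg Fin.val e; simp at this)
  have hCf : ∀ i : Fin (n + 2), Cf i (ee r) = if (i : ℕ) = 1 then 1 else 0 := by
    intro i
    rw [hr]
    unfold Cf
    by_cases hi : (i : ℕ) + 1 < n + 2
    · rw [dif_pos hi]
      simp only [Pi.add_apply, wt_apply, Fin.ext_iff, if_true]
      split_ifs <;> first | contradiction | omega
    · rw [dif_neg hi]
      simp only [Pi.add_apply, wt_apply, Fin.ext_iff, if_true, pd]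
      split_ifs <;> first | contradiction | omega
  refine ⟨r, hroot, ?_, ?_⟩
  · intro i
    rw [← Cf_ee, hCf]
    split_ifs <;> norm_num
  · intro i hi
    rw [mem_orth, ← Cf_ee, hCf, if_neg]
    intro e
    exact hi (Fin.ext e)

open Cfsg

theorem noHall_PO_plus {F : Type*} [Field F] [Finite F] {m : ℕ} (hm : 4 ≤ m) :
    NoHall (Cfsg.POmega F (Cfsg.quadFormPlus m F)) := by
  obtain ⟨p, hp⟩ := CharP.exists F
  have : Fact p.Prime := ⟨CharP.char_is_prime F p⟩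
  obtain ⟨n, rfl⟩ : ∃ n, m = n + 2 := ⟨m - 2, by omega⟩
  rw [← coe_plusForm]
  have hG := good_plus (n + 2) F (by omega)
  let cs := (M n).toCoxeterSystem
  have : Finite (M n).Group := finite_W cs
  have R := rgdD_model (wplus (n + 2) F) hG (amb_plus _) (adm_plus _) (p := p) cs
  have hfin : Finite (POmega F ⇑(plusForm (n + 2) F)) := inferInstance
  obtain ⟨r, hr, hd, ho⟩ := exists_dom (by omega) cs (n := n)
  have hX := fun x hx => card_XD (wplus (n + 2) F) hG cs (x := x) hx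
  have h1 := LieC.cast_neg_one (Nat.card F)
  refine noHall_of_root R ?_ hr hd ⟨1, by omega⟩ ⟨0, by omega⟩ ho ?_ (l := Nat.card F + 1) ?_ ?_ ?_ ?_
  · rw [eq_top_iff, ← G1D_eq_top (wplus (n + 2) F) (toPOmega hG) (toPOmega_surjective hG) (adm_plus _) cs]
    exact RGD.Sup_le fun x hx => X_le_GG hx
  · intro σ hσ _
    exact sigma_one (by omega) hσ
  · have := Finite.one_lt_card (α := F)
    omega
  · intro x hx
    rw [hX x hx, h1]
    ring
  · rw [hX r hr, h1]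
  · rw [hX _ (isRoot_sr cs _ _), h1]

end Cfsg.Agent.H554.LieD
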