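import Mathlib
import Cfsg.Agent.H554.LieC
import Cfsg.Agent.KFacts.SLRow.Chev

/-!
# No Hall systems: the Chevalley groups of type `F₄`, `E₆`, `E₇`, `E₈` (helper554)
-/

set_option autoImplicit false
set_option linter.unusedSectionVars false

namespace Cfsg.Agent.H554.LieE

open CoxeterSystem Cfsg.Lie Cfsg.Agent.ChevalleyStructure Cfsg.Agent.ChevalleyStructure.CoxeterGeom
  Cfsg.Agent.ChevalleyStructure.CoxeterGeomTypes
  Cfsg.Agent.Tits.Roots Cfsg.Agent.Tits.Core Cfsg.Agent.Nodes.Reps Cfsg.Agent.Nodes.BNOf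
  Cfsg.Agent.Nodes.RGDChev Cfsg.Agent.Nodes.RGDLib Cfsg.Agent.Nodes.StabComb Cfsg.Agent.Nodes.Bruhat Cfsg.Agent.H554.RG
open Cfsg.Agent.KFacts.SLRow.Chev (card_XV)

universe u

variable {D : ChevalleyDatum} {l : ℕ} {M : CoxeterMatrix (Fin l)}

theorem GG_eq_top (hp : IsType D l M) (K : Type u) [Field K] {W : Type*} [Group W] (cs : CoxeterSystem M W) :
    GG cs hp.isCartan ((D.diagonalSubgroup K).subgroupOf (D.group K)) (fun x => (XV D l K x).subgroupOf (D.group K)) =
      ⊤ := by
  rw [eq_top_iff, ← G1_eq_top hp cs]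
  exact RGD.Sup_le fun x hx => X_le_GG (X := fun x => (XV D l K x).subgroupOf (D.group K)) hx

/-- The criterion for the tabulated data. -/
theorem noHall_group (hp : IsType D l M) (r : ℕ) (hr : r < D.nroots) (k j : Fin l)
    (hd : ∀ i : Fin l, 0 ≤ D.cartan i r) (hk : ∀ i : Fin l, i ≠ k → D.cartan i r = 0)
    (hj : ∀ σ : Equiv.Perm (Fin l), (∀ a b, M (σ a) (σ b) = M a b) → σ k ≠ j)
    (K : Type u) [Field K] [Finite K] : NoHall ↥(D.group K) := by
  obtain ⟨p, hp'⟩ := CharP.exists K
  have : Fact p.Prime := ⟨CharP.char_is_prime K p⟩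
  let cs := M.toCoxeterSystem
  have hW : Finite M.Group := finite_W hp cs
  have R := rgd (K := K) hp cs p
  have hfin : Finite ↥(D.group K) := inferInstance
  have h1 := LieC.cast_neg_one (Nat.card K)
  have hX := fun x hx => card_XV hp K cs (x := x) hx
  refine noHall_of_root R (GG_eq_top hp K cs) (isRoot_vec hp cs hr) ?_ k j ?_ ?_ (l := Nat.card K + 1) ?_ ?_ ?_ ?_
  · intro i
    rw [pairing_vec hp i hr]
    exact hd i
  · intro i hi
    rw [mem_orth, pairing_vec hp i hr]
    exact hk i hi
  · intro σ hσ _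
    exact hj σ hσ
  · have := Finite.one_lt_card (α := K)
    omega
  · intro x hx
    rw [hX x hx, h1]
    ring
  · rw [hX _ (isRoot_vec hp cs hr), h1]
  · rw [hX _ (isRoot_sr cs _ _), h1]

theorem noHall_F4 (K : Type u) [Field K] [Finite K] : NoHall ↥(chevF4.group K) := by
  refine noHall_group (M := CoxeterMatrix.F₄) (by simp [IsType, typeList]) 44 (by decide +kernel) 0 1
    (by decide +kernel) (by decide +kernel) ?_ K
  intro σ hσ
  exact LieC.sigma_ne hσ (u := 0) (v := 1) (c := 1) (a := 0) (b := 2) (by decide) (by decide) (by decide)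
    (by decide) (by decide) (by decide)

theorem noHall_E6 (K : Type u) [Field K] [Finite K] : NoHall ↥(chevE6.group K) := by
  refine noHall_group (M := CoxeterMatrix.E₆) (by simp [IsType, typeList]) 71 (by decide +kernel) 1 3
    (by decide +kernel) (by decide +kernel) ?_ K
  intro σ hσ
  exact LieC.sigma_ne hσ (u := 1) (v := 3) (c := 3) (a := 1) (b := 2) (by decide) (by decide) (by decide)
    (by decide) (by decide) (by decide)

theorem noHall_E7 (K : Type u) [Field K] [Finite K] : NoHall ↥(chevE7.group K) := by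
  refine noHall_group (M := CoxeterMatrix.E₇) (by simp [IsType, typeList]) 125 (by decide +kernel) 0 2
    (by decide +kernel) (by decide +kernel) ?_ K
  intro σ hσ
  exact LieC.sigma_ne hσ (u := 0) (v := 2) (c := 2) (a := 0) (b := 3) (by decide) (by decide) (by decide)
    (by decide) (by decide) (by decide)

theorem noHall_E8 (K : Type u) [Field K] [Finite K] : NoHall ↥(chevE8.group K) := by
  refine noHall_group (M := CoxeterMatrix.E₈) (by simp [IsType, typeList]) 239 (by decide +kernel) 7 6
    (by decide +kernel) (by decide +kernel) ?_ K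
  intro σ hσ
  exact LieC.sigma_ne hσ (u := 7) (v := 6) (c := 6) (a := 7) (b := 5) (by decide) (by decide) (by decide)
    (by decide) (by decide) (by decide)

end Cfsg.Agent.H554.LieE
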