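import Mathlib
import Cfsg.Agent.H554.Base
import Cfsg.Agent.Mrg.Omega.ML.LieRow.Lie
import Cfsg.Agent.Tits.ExtAux
import Cfsg.Agent.H554.RGTits

/-!
# Split (B,N)-pairs of characteristic two and Hall systems (helper554)

* `exists_parabolic` : Tits' lemma for a split (B,N)-pair;
* `exists_sylow` : `U` is a Sylow subgroup;
* `noHall_of_split` : characteristic two, a prime `r` dividing `|B ∩ N|` but not `|K : B|`.
-/

set_option autoImplicit false
set_option linter.unusedSectionVars false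

namespace Cfsg.Agent.H554.SplitTorus

open Subgroup Cfsg Cfsg.Agent.FixBN Cfsg.Agent.Tits.Core Cfsg.Agent.Tits.OfBN Cfsg.Agent.Omega.ML.LieRow

variable {K : Type*} [Group K] [Finite K] {p : ℕ} [hp : Fact p.Prime] (P : Cfsg.BNPair K) {U : Subgroup K}

/-- **Tits' lemma.** -/
theorem exists_parabolic [IsSimpleGroup K] (hne : P.S.Nonempty) (h : Split P p U) {X : Subgroup K} (hU : U ≤ X)
    (hX : X ≠ ⊤) : ∃ Z : Subgroup K, X ≤ Z ∧ P.B ≤ Z ∧ ∃ s ∈ P.S, s ∉ Z := by
  have hN : ((P.B ⊓ P.N).subgroupOf P.N).Normal := normal_subgroupOf P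
  obtain ⟨M, cs, hcs⟩ := S0320.result P
  have hI : Finite P.S := OfBN.finite_I (Equiv.refl P.S)
  have hIn : Nonempty P.S := hne.to_subtype
  obtain ⟨S, hS⟩ : ∃ S : Sys (bldg P (Equiv.refl P.S) cs hcs) K p, S.U = OfBN.UU P U :=
    ⟨OfBN.sys (Equiv.refl P.S) cs hcs h, rfl⟩
  have hth := thick P (Equiv.refl P.S) cs hcs
  have hinj : Function.Injective cs.simple := by
    intro s s' e
    rw [hcs, hcs, mk_eq_iff] at e
    exact Subtype.ext (P.inj _ s.2 _ s'.2 e)
  let Δ := bldg P (Equiv.refl P.S) cs hcs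
  let c : K ⧸ P.B := QuotientGroup.mk 1
  have hSU : S.U c = U := by
    rw [hS]
    ext u
    rw [OfBN.mem_UU h, inv_one, one_mul, mul_one]
  have hSX : S.U c ≤ X := hSU ▸ hU
  set J := tp Δ X c with hJ
  have hδ : ∀ g : K, Δ.δ c (g • c) = wt P g := by
    intro g
    have h1 : g • c = QuotientGroup.mk (g * 1) := rfl
    rw [h1, mul_one]
    have h2 := bldg_δ_mk P (Equiv.refl P.S) cs hcs 1 g
    rw [inv_one, one_mul] at h2
    exact h2
  let Z : Subgroup K :=
    { carrier := {g | Δ.δ c (g • c) ∈ WJ cs J}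
      one_mem' := by
        change Δ.δ c ((1 : K) • c) ∈ WJ cs J
        rw [one_smul, (Δ.eq_one c c).mpr rfl]
        exact one_mem _
      mul_mem' := by
        intro g k hg hk
        change Δ.δ c ((g * k) • c) ∈ WJ cs J
        rw [mul_smul]
        refine Tits.OppRes.delta_mem_of_mem hg ?_
        rw [S.iso]
        exact hk
      inv_mem' := by
        intro g hg
        change Δ.δ c (g⁻¹ • c) ∈ WJ cs J
        have h1 : Δ.δ c (g⁻¹ • c) = (Δ.δ c (g • c))⁻¹ := by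
          rw [← Δ.symm, ← S.iso g c (g⁻¹ • c), smul_inv_smul]
        rw [h1]
        exact inv_mem hg }
  have hZ : ∀ g : K, g ∈ Z ↔ wt P g ∈ WJ cs J := by
    intro g
    rw [← hδ g]
    rfl
  refine ⟨Z, fun g hg => delta_mem_tp S hth hSX g hg, ?_, ?_⟩
  · intro b hb
    rw [hZ]
    have h1 := wt_mul_right P 1 hb
    rw [one_mul] at h1
    rw [h1, ← hδ, one_smul, (Δ.eq_one c c).mpr rfl]
    exact one_mem _
  · by_contra hcon
    push Not at hcon
    apply hX
    refine eq_top_of_tp S hth hSX ?_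
    rw [Set.eq_univ_iff_forall]
    intro s
    have h1 := (hZ _).mp (hcon s.1 s.2)
    have h2 : wt P (s : K) = cs.simple s := by
      rw [hcs]
      exact wt_of_mem P (LieExceptional.BNPairCore.self_mem_C _)
    rw [h2] at h1
    exact Tits.Ext.mem_of_simple_mem_WJ hinj h1

/-- `U` is a Sylow `p`-subgroup. -/
theorem exists_sylow (h : Split P p U) : ∃ Q : Sylow p K, (Q : Subgroup K) = U := by
  obtain ⟨Q, hQ⟩ := h.isP.exists_le_sylow
  refine ⟨Q, ?_⟩
  obtain ⟨x, hx⟩ := OfBN.exists_fix h (Q : Subgroup K) Q.isPGroup'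
  have h1 := OfBN.max h x (Q : Subgroup K) Q.isPGroup' hx
  have h2 : Nat.card (OfBN.UU P U x) = Nat.card U :=
    Nat.card_congr (U.equivMapOfInjective (MulAut.conj x.out).toMonoidHom (MulAut.conj x.out).injective).symm.toEquiv
  have h3 : Nat.card (Q : Subgroup K) ≤ Nat.card U := h2 ▸ Nat.le_of_dvd Nat.card_pos (card_dvd_of_le h1)
  exact (Subgroup.eq_of_le_of_card_ge hQ h3).symm

/-- `|B : B ∩ N|` divides `|U|`. -/
theorem relIndex_dvd (h : Split P p U) : (P.B ⊓ P.N).relIndex P.B ∣ Nat.card U := by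
  have hH : P.B ⊓ P.N ≤ P.B := inf_le_left
  have hN : ∀ t ∈ P.B ⊓ P.N, t ∈ normalizer (U : Set K) := by
    intro t ht
    rw [h.normalizer_eq]
    exact hH ht
  have h1 : U ⊔ (P.B ⊓ P.N) = P.B := by
    apply le_antisymm (sup_le h.le hH)
    intro b hb
    obtain ⟨u, hu, t, ht, rfl⟩ := h.cover' hb
    exact mul_mem (mem_sup_left hu) (mem_sup_right ht)
  have h2 := RG.relIndex_dvd_of_sup (U := U) (T := P.B ⊓ P.N) hN
  rwa [h1] at h2

/-- **Characteristic two**: no Hall system if a prime `r` divides `|B ∩ N|` but not `|K : B|`. -/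
theorem noHall_of_split {K : Type*} [Group K] [Finite K] [IsSimpleGroup K] (hna : ¬ IsMulCommutative K)
    (P : Cfsg.BNPair K) {U : Subgroup K} (hne : P.S.Nonempty) (h : Split P 2 U) {r : ℕ} (hr : r.Prime)
    (hd : r ∣ Nat.card ↥(P.B ⊓ P.N)) (hB : ¬ r ∣ P.B.index) : NoHall K := by
  intro A0 m hA
  have : Fact r.Prime := ⟨hr⟩
  have hp2 : Fact (Nat.Prime 2) := ⟨Nat.prime_two⟩
  set T := P.B ⊓ P.N with hT
  -- the Sylow subgroup
  obtain ⟨Q₀⟩ : Nonempty (Sylow r T) := inferInstance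
  have hTB : T ≤ P.B := inf_le_left
  have hrp : r ≠ 2 := by
    rintro rfl
    obtain ⟨k, hk, hk2⟩ := h.tor
    obtain ⟨x, hx⟩ := exists_prime_orderOf_dvd_card' (G := T) 2 hd
    apply hk
    rw [← hx]
    exact orderOf_dvd_of_pow_eq_one (Subtype.ext (hk2 _ x.2.1 x.2.2))
  have hTi : ¬ r ∣ T.index := by
    rw [← Subgroup.relIndex_mul_index hTB]
    intro hdv
    rcases hr.dvd_mul.mp hdv with h1 | h1
    · have h2 : T.relIndex P.B ∣ Nat.card U := relIndex_dvd P h
      obtain ⟨e, he⟩ := IsPGroup.iff_card.mp h.isP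
      rw [he] at h2
      exact hrp ((Nat.prime_dvd_prime_iff_eq hr Nat.prime_two).mp (hr.dvd_of_dvd_pow (h1.trans h2)))
    · exact hB h1
  have hQi : ¬ r ∣ ((Q₀ : Subgroup T).map T.subtype).index := by
    rw [Subgroup.index_map_subtype]
    intro hdv
    rcases hr.dvd_mul.mp hdv with h1 | h1
    · exact Q₀.not_dvd_index h1
    · exact hTi h1
  set Q : Sylow r K := (Q₀.isPGroup'.map T.subtype).toSylow hQi with hQdef
  have hQT : (Q : Subgroup K) ≤ T := Subgroup.map_subtype_le _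
  -- elements of `T n` in the normaliser
  have hN : ∀ n ∈ P.N, ∃ t ∈ T, t * n ∈ Subgroup.normalizer ((Q : Subgroup K) : Set K) := by
    intro n hn
    have h1 : ((n • Q : Sylow r K) : Subgroup K) ≤ T := by
      rw [Sylow.coe_subgroup_smul]
      rintro _ ⟨x, hx, rfl⟩
      exact ⟨P.conj_mem n hn x (hQT hx), P.N.mul_mem (P.N.mul_mem hn (hQT hx).2) (P.N.inv_mem hn)⟩
    obtain ⟨t, ht⟩ := MulAction.exists_smul_eq T ((n • Q).subtype h1) (Q.subtype hQT)
    rw [Sylow.smul_subtype] at ht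
    have h2 : t • (n • Q) = Q := Sylow.subtype_injective ht
    refine ⟨t, t.2, Sylow.smul_eq_iff_mem_normalizer.mp ?_⟩
    rw [mul_smul]
    exact h2
  have hdS : r ∣ Nat.card K := hd.trans (Subgroup.card_subgroup_dvd_card T)
  obtain ⟨R, hR1, hR2, -, hR4, -, -⟩ := hA.sylow hna hdS Q
  -- even order
  have heven : 2 ∣ Nat.card R := by
    obtain ⟨s, hs⟩ := hne
    have hNn : ((P.B ⊓ P.N).subgroupOf P.N).Normal := normal_subgroupOf P
    have hsN := P.subset hs
    obtain ⟨t, ht, htn⟩ := hN s hsN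
    by_contra hodd
    have h3 : (t * s) ^ Nat.card R = 1 := by
      have h9 : (⟨t * s, hR1 htn⟩ : R) ^ Nat.card R = 1 := pow_card_eq_one'
      exact congrArg Subtype.val h9
    -- the image in `N / (B ∩ N)`
    have h4 : (QuotientGroup.mk (⟨t * s, mul_mem ht.2 hsN⟩ : P.N) : P.N ⧸ (P.B ⊓ P.N).subgroupOf P.N) =
        QuotientGroup.mk (⟨s, hsN⟩ : P.N) := by
      rw [QuotientGroup.eq, mem_subgroupOf]
      change (t * s)⁻¹ * s ∈ P.B ⊓ P.N
      have h5 := P.conj_mem s⁻¹ (inv_mem hsN) t⁻¹ (inv_mem ht)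
      rw [inv_inv] at h5
      have h6 : (t * s)⁻¹ * s = s⁻¹ * t⁻¹ * s := by group
      rw [h6]
      exact ⟨h5, P.N.mul_mem (P.N.mul_mem (P.N.inv_mem hsN) (P.N.inv_mem ht.2)) hsN⟩
    set w : P.N ⧸ (P.B ⊓ P.N).subgroupOf P.N := QuotientGroup.mk (⟨s, hsN⟩ : P.N) with hw
    have h5 : w ^ 2 = 1 := by
      rw [hw, ← QuotientGroup.mk_pow, QuotientGroup.eq_one_iff, mem_subgroupOf]
      change s ^ 2 ∈ P.B ⊓ P.N
      rw [pow_two]
      exact ⟨P.sq_mem s hs, mul_mem hsN hsN⟩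
    have h6 : w ^ Nat.card R = 1 := by
      rw [← h4, ← QuotientGroup.mk_pow]
      have : (⟨t * s, mul_mem ht.2 hsN⟩ : P.N) ^ Nat.card R = 1 := Subtype.ext h3
      rw [this]
      rfl
    have h7 : w = 1 := by
      have h8 : orderOf w = 1 := Nat.eq_one_of_dvd_coprimes
        ((Nat.Prime.coprime_iff_not_dvd Nat.prime_two).mpr hodd)
        (orderOf_dvd_of_pow_eq_one h5) (orderOf_dvd_of_pow_eq_one h6)
      exact orderOf_eq_one_iff.mp h8
    rw [hw, QuotientGroup.eq_one_iff, mem_subgroupOf] at h7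
    have h8 : s ∈ P.B := h7.1
    -- `s ∉ B`
    apply P.conj_ne s hs
    ext x
    constructor
    · rintro ⟨b, hb, rfl⟩
      exact mul_mem (mul_mem h8 hb) h8
    · intro hx
      exact ⟨s⁻¹ * x * s⁻¹, mul_mem (mul_mem (inv_mem h8) hx) (inv_mem h8), by group⟩
  have hRi : ¬ 2 ∣ R.index := by
    intro h1
    have := Nat.dvd_gcd heven h1
    rw [hR4] at this
    norm_num at this
  -- a conjugate of `R` contains `U`
  obtain ⟨Q2, hQ2⟩ := exists_sylow P h
  obtain ⟨Q1⟩ : Nonempty (Sylow 2 R) := inferInstance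
  have h1 : ¬ 2 ∣ ((Q1 : Subgroup R).map R.subtype).index := by
    rw [Subgroup.index_map_subtype]
    intro hd
    rcases Nat.prime_two.dvd_mul.mp hd with h | h
    · exact Q1.not_dvd_index h
    · exact hRi h
  have h2 : IsPGroup 2 ((Q1 : Subgroup R).map R.subtype) := Q1.isPGroup'.map _
  obtain ⟨g, hg⟩ := MulAction.exists_smul_eq K (h2.toSylow h1) Q2
  have h3 : U ≤ R.map (MulAut.conj g).toMonoidHom := by
    rw [← hQ2, ← hg]
    change ((Q1 : Subgroup R).map R.subtype).map (MulAut.conj g).toMonoidHom ≤ _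
    exact Subgroup.map_mono (Subgroup.map_subtype_le _)
  have h4 : R.map (MulAut.conj g).toMonoidHom ≠ ⊤ := by
    intro h5
    apply hR2
    have h6 : (⊤ : Subgroup K).map (MulAut.conj g).toMonoidHom = ⊤ :=
      Subgroup.map_top_of_surjective _ (MulAut.conj g).surjective
    exact map_conj_inj (h5.trans h6.symm)
  obtain ⟨Z, hgi, hBZ, s, hs, hsZ⟩ := exists_parabolic P hne h h3 h4
  have hTZ : T ≤ Z := hTB.trans hBZ
  have h1 : ((g • Q : Sylow r K) : Subgroup K) ≤ Z := by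
    rw [Sylow.coe_subgroup_smul]
    refine le_trans ?_ hgi
    exact Subgroup.map_mono (Subgroup.le_normalizer.trans hR1)
  obtain ⟨y, hy⟩ := MulAction.exists_smul_eq Z ((g • Q).subtype h1) (Q.subtype (hQT.trans hTZ))
  rw [Sylow.smul_subtype] at hy
  have h2 : y • (g • Q) = Q := Sylow.subtype_injective hy
  have h3 : (y : K) * g ∈ R := by
    apply hR1
    apply Sylow.smul_eq_iff_mem_normalizer.mp
    rw [mul_smul]
    exact h2
  have h4 : R ≤ Z := by
    intro x hx
    have h5 : (((y : K) * g)⁻¹ * x * ((y : K) * g)) ∈ R := mul_mem (mul_mem (inv_mem h3) hx) h3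
    have h6 := hgi (Subgroup.mem_map_of_mem (MulAut.conj g).toMonoidHom h5)
    have h7 : (MulAut.conj g).toMonoidHom (((y : K) * g)⁻¹ * x * ((y : K) * g)) = (y : K)⁻¹ * x * y := by
      change g * _ * g⁻¹ = _
      group
    rw [h7] at h6
    have h8 := mul_mem (mul_mem y.2 h6) (inv_mem y.2)
    have h9 : (y : K) * ((y : K)⁻¹ * x * y) * (y : K)⁻¹ = x := by group
    rwa [h9] at h8
  obtain ⟨t, ht, htn⟩ := hN s (P.subset hs)
  have h6 := mul_mem (inv_mem (hTZ ht)) (h4 (hR1 htn))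
  rw [inv_mul_cancel_left] at h6
  exact hsZ h6

end Cfsg.Agent.H554.SplitTorus
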