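import Mathlib
import Cfsg.Agent.H554.SplitTorus
import Cfsg.Agent.FixBN.ReeSplit
import Cfsg.Agent.S1163
import Cfsg.Agent.S1162
import Cfsg.Agent.S1073
import Cfsg.Agent.S1069

/-!
# No Hall systems: `Sz(q)`, `²G₂(q)` (helper554)
-/

set_option autoImplicit false
set_option linter.unusedSectionVars false

namespace Cfsg.Agent.H554.LieSz

open Subgroup Cfsg Cfsg.Lie Cfsg.Agent.FixBN Cfsg.Agent.H554.SplitTorus Cfsg.Agent.Omega.ML.LieRow

/-- a simple group with order divisible by four is not commutative -/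
theorem not_comm_of_four_dvd {S : Type*} [Group S] [Finite S] [IsSimpleGroup S] (h4 : 4 ∣ Nat.card S) :
    ¬ IsMulCommutative S := by
  intro hc
  letI : CommGroup S := { (inferInstance : Group S) with mul_comm := fun a b => hc.is_comm.comm a b }
  have h1 : (Nat.card S).Prime := IsSimpleGroup.prime_card
  have h2 := (Nat.prime_dvd_prime_iff_eq Nat.prime_two h1).mp (Dvd.dvd.trans (by norm_num) h4)
  rw [← h2] at h4
  norm_num at h4

theorem two_dvd_of_odd_mul {a b c : ℕ} (h : a * b = c) (ha : ¬ 2 ∣ a) (hc : 2 ∣ c) : 2 ∣ b := by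
  rw [← h] at hc
  exact (Nat.prime_two.dvd_mul.mp hc).resolve_left ha

/-- **`Sz(q)`.** -/
theorem noHall_Sz {F : Type*} [Field F] [Fintype F] {m : ℕ} (hm : 1 ≤ m) (hF : Fintype.card F = 2 ^ (2 * m + 1)) :
    NoHall ↥(Cfsg.Lie.Sz F (2 ^ (m + 1))) := by
  have H := LieRecognition.SzMatrix.good hF
  have hs : IsSimpleGroup ↥(Cfsg.Lie.Sz F (2 ^ (m + 1))) := Cfsg.Agent.S1162.result hm hF
  have hcard := (Cfsg.Agent.S1163.result hm hF).1
  have hfin : Finite ↥(Cfsg.Lie.Sz F (2 ^ (m + 1))) := inferInstance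
  set q := 2 ^ (2 * m + 1) with hq
  have hq8 : 8 ≤ q := by
    calc 8 = 2 ^ 3 := by norm_num
      _ ≤ 2 ^ (2 * m + 1) := Nat.pow_le_pow_right (by norm_num) (by omega)
  have heven : 2 ∣ q := dvd_pow_self 2 (by omega)
  have hna : ¬ IsMulCommutative ↥(Cfsg.Lie.Sz F (2 ^ (m + 1))) := by
    refine not_comm_of_four_dvd ?_
    rw [hcard, mul_assoc]
    refine Dvd.dvd.mul_right ?_ _
    have := pow_dvd_pow_of_dvd heven 2
    exact this
  have hsp := SzSplit.split hm hF H hs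
  have hNF : Nat.card F = q := by rw [Nat.card_eq_fintype_card, hF]
  have hB : Nat.card (SzSplit.bnPair H).B = q ^ 2 * (q - 1) := by
    have := H.card_borel
    rw [hNF] at this
    exact this
  have hidx : (SzSplit.bnPair H).B.index = q ^ 2 + 1 := by
    have h1 := (SzSplit.bnPair H).B.card_mul_index
    rw [hB, hcard] at h1
    exact Nat.eq_of_mul_eq_mul_left (Nat.mul_pos (by positivity) (by omega)) h1
  obtain ⟨r, hr, hrd⟩ := Nat.exists_prime_and_dvd (n := q - 1) (by omega)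
  have hrq : ¬ r ∣ q := by
    intro h1
    have h2 : r ∣ 1 := by
      have h3 := Nat.dvd_sub h1 hrd
      rwa [show q - (q - 1) = 1 by omega] at h3
    exact hr.one_lt.ne' (Nat.dvd_one.mp h2)
  refine noHall_of_split hna (SzSplit.bnPair H) ⟨H.w, rfl⟩ hsp hr ?_ ?_
  · -- the torus
    have h1 : ∀ a : Fˣ, H.d a ∈ (SzSplit.bnPair H).B ⊓ (SzSplit.bnPair H).N := fun a =>
      ⟨H.d_mem_borel a, Or.inl ⟨a, rfl⟩⟩
    let φ : Fˣ →* ↥((SzSplit.bnPair H).B ⊓ (SzSplit.bnPair H).N) :=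
      { toFun := fun a => ⟨H.d a, h1 a⟩
        map_one' := Subtype.ext H.d_one
        map_mul' := fun a b => Subtype.ext (H.d_mul a b).symm }
    have h2 : Function.Injective φ := fun a b e => H.d_inj (congrArg Subtype.val e)
    have h3 := Subgroup.card_dvd_of_injective φ h2
    rw [Nat.card_units, hNF] at h3
    exact hrd.trans h3
  · rw [hidx]
    intro h1
    -- `q² + 1 ≡ 2`
    have h2 : q ^ 2 + 1 = (q - 1) * (q + 1) + 2 := by
      obtain ⟨k, hk⟩ : ∃ k, q = k + 1 := ⟨q - 1, by omega⟩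
      rw [hk, Nat.add_sub_cancel]
      ring
    rw [h2] at h1
    have h3 : r ∣ 2 := (Nat.dvd_add_right (hrd.mul_right _)).mp h1
    have h4 := (Nat.prime_dvd_prime_iff_eq hr Nat.prime_two).mp h3
    exact hrq (h4 ▸ heven)

/-- In rank one the Borel subgroup is maximal. -/
theorem eq_B_of_rank_one {K : Type*} [Group K] [Finite K] [IsSimpleGroup K] {p : ℕ} [Fact p.Prime] {P : Cfsg.BNPair K}
    {U : Subgroup K} {w : K} (hw : P.S = {w}) (h : Split P p U) (hbr : ∀ g : K, g ∈ P.B ∨ ∃ b ∈ P.B, ∃ b' ∈ P.B, g = b * w * b')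
    {M : Subgroup K} (hM : P.B ≤ M) (hMt : M ≠ ⊤) : M = P.B := by
  obtain ⟨Z, hZ1, hZ2, s, hs, hsZ⟩ := exists_parabolic P ⟨w, by rw [hw]; rfl⟩ h (h.le.trans hM) hMt
  rw [hw, Set.mem_singleton_iff] at hs
  subst hs
  refine le_antisymm (fun g hg => ?_) hM
  rcases hbr g with h1 | ⟨b, hb, b', hb', e⟩
  · exact h1
  · exfalso
    apply hsZ
    have h1 : s = b⁻¹ * g * b'⁻¹ := by rw [e]; group
    rw [h1]
    exact mul_mem (mul_mem (inv_mem (hZ2 hb)) (hZ1 hg)) (inv_mem (hZ2 hb'))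

/-- **`²G₂(q)`.** -/
theorem noHall_Ree {K : Type*} [Field K] [Fintype K] {m : ℕ} (hm : 1 ≤ m) (hK : Fintype.card K = 3 ^ (2 * m + 1)) :
    NoHall ↥(twistedG2 K (3 ^ m)) := by
  obtain ⟨hs, hna⟩ := Cfsg.Agent.S1073.result hm hK
  have hcard := Cfsg.Agent.S1069.result hK
  obtain ⟨U, h, n, D⟩ := Cfsg.Agent.ChevalleyStructure.Ree.Data.exists_data hK
  have hfin : Finite ↥(twistedG2 K (3 ^ m)) := inferInstance
  have hp3 : Fact (Nat.Prime 3) := ⟨Nat.prime_three⟩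
  have hsp := ReeSplit.split hK D
  set P := ReeSplit.bnPair D with hP
  set q := 3 ^ (2 * m + 1) with hq
  have hq27 : 27 ≤ q := by
    calc 27 = 3 ^ 3 := by norm_num
      _ ≤ 3 ^ (2 * m + 1) := Nat.pow_le_pow_right (by norm_num) (by omega)
  have hodd : ¬ 2 ∣ q := by
    intro h2
    have := Nat.prime_two.dvd_of_dvd_pow h2
    norm_num at this
  have hNK : Nat.card K = q := by rw [Nat.card_eq_fintype_card, hK]
  have htor : Nat.card ↥(P.B ⊓ P.N) = q - 1 := by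
    have h1 : ∀ a : Kˣ, h a ∈ P.B ⊓ P.N := fun a => ⟨ReeSplit.h_mem_bSub D a, Or.inl ⟨a, rfl⟩⟩
    rw [← hNK, ← Nat.card_units]
    symm
    refine Nat.card_congr (Equiv.ofBijective (fun a : Kˣ => (⟨h a, h1 a⟩ : ↥(P.B ⊓ P.N))) ⟨?_, ?_⟩)
    · intro a b e
      exact ReeSplit.h_inj D (congrArg Subtype.val e)
    · rintro ⟨g, hg⟩
      obtain ⟨a, rfl⟩ := ReeSplit.mem_inf D hg.1 hg.2
      exact ⟨a, rfl⟩
  -- the index of `B` and its order are even
  have hB2 : 2 ∣ Nat.card P.B := by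
    refine Dvd.dvd.trans ?_ (Subgroup.card_dvd_of_le (inf_le_left : P.B ⊓ P.N ≤ P.B))
    rw [htor]
    omega
  have hidx2 : 2 ∣ P.B.index := by
    have h1 : Nat.card ↥(P.B ⊓ P.N) * (P.B ⊓ P.N).relIndex P.B = Nat.card P.B := RG.card_mul_relIndex' inf_le_left
    have h2 : ¬ 2 ∣ (P.B ⊓ P.N).relIndex P.B := by
      intro h3
      have h4 := h3.trans (relIndex_dvd P hsp)
      obtain ⟨e, he⟩ := IsPGroup.iff_card.mp hsp.isP
      rw [he] at h4
      have := Nat.prime_two.dvd_of_dvd_pow h4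
      norm_num at this
    have h3 := P.B.card_mul_index
    rw [← h1, htor, hcard] at h3
    have h4 : (P.B ⊓ P.N).relIndex P.B * P.B.index = q ^ 3 * (q ^ 3 + 1) := by
      have h5 : (q - 1) * ((P.B ⊓ P.N).relIndex P.B * P.B.index) = (q - 1) * (q ^ 3 * (q ^ 3 + 1)) := by
        rw [← mul_assoc, h3]
        ring
      exact Nat.eq_of_mul_eq_mul_left (by omega) h5
    refine two_dvd_of_odd_mul h4 h2 (Dvd.dvd.mul_left ?_ _)
    have h6 : ¬ 2 ∣ q ^ 3 := fun h7 => hodd (Nat.prime_two.dvd_of_dvd_pow h7)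
    omega
  intro A0 l hA
  obtain ⟨Q, hQ⟩ := exists_sylow P hsp
  have hd3 : 3 ∣ Nat.card ↥(twistedG2 K (3 ^ m)) := by
    rw [hcard, mul_assoc]
    refine Dvd.dvd.mul_right ?_ _
    exact dvd_pow (dvd_pow_self 3 (by omega)) (by norm_num)
  obtain ⟨M, hM1, hM2, -, hM4, -, -⟩ := hA.sylow hna hd3 Q
  rw [hQ, hsp.normalizer_eq] at hM1
  have hMB : M = P.B := eq_B_of_rank_one (w := n) rfl hsp (ReeSplit.bruhat' D) hM1 hM2
  rw [hMB] at hM4
  have := Nat.dvd_gcd hB2 hidx2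
  rw [hM4] at this
  norm_num at this

end Cfsg.Agent.H554.LieSz
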