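import Mathlib
import Cfsg.Agent.H554.LieE
import Cfsg.Agent.ClosedExc.Rows
import Cfsg.Agent.SigTab.Table

/-!
# No Hall systems: `³D₄(q)`, `²E₆(q)` (helper554)
-/

set_option autoImplicit false
set_option linter.unusedSectionVars false

namespace Cfsg.Agent.H554.LieTw

open CoxeterSystem Cfsg.Lie Cfsg.Agent.ChevalleyStructure Cfsg.Agent.ChevalleyStructure.CoxeterGeom
  Cfsg.Agent.ChevalleyStructure.CoxeterGeomTypes
  Cfsg.Agent.Tits.Roots Cfsg.Agent.Tits.Core Cfsg.Agent.Nodes.Reps Cfsg.Agent.Nodes.BNOf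
  Cfsg.Agent.Nodes.RGDChev Cfsg.Agent.Nodes.RGDFold Cfsg.Agent.Nodes.RGDLib
  Cfsg.Agent.Nodes.StabComb Cfsg.Agent.Nodes.Bruhat Cfsg.Agent.H554.RG
open Cfsg.Agent.ChevalleyStructure.TwistedFix

section General

variable {I W S : Type*} [Fintype I] [DecidableEq I] [Group W] [Group S] {M : CoxeterMatrix I}
  {cs : CoxeterSystem M W} {A : I → I → ℤ} {h : IsCartan M A} {p : ℕ} {T : Subgroup S} {n : I → S}
  {X : (I → ℤ) → Subgroup S} (R : RGD cs h p T n X)

include R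

theorem sq_of_simple [Finite W] {l : ℕ} (hs : ∀ i, ((Nat.card (X (sr i)) : ℕ) : ZMod l) ^ 2 = 1) (x : I → ℤ)
    (hx : IsRoot cs h x) : ((Nat.card (X x) : ℕ) : ZMod l) ^ 2 = 1 := by
  obtain ⟨w, i, rfl⟩ := hx
  rw [Cfsg.Agent.Nodes.CardSup.card_X_rep R w (isRoot_sr cs h i)]
  exact hs i

end General

namespace D4

open Cfsg.Agent.Nodes.RGDTwD4 Cfsg.Agent.ClosedExc.TwD4

theorem noHall {K : Type} [Field K] [Fintype K] {q : ℕ} (hq : IsPrimePow q) (hK : Fintype.card K = q ^ 3) :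
    NoHall ↥(twistedD4 K q) := by
  obtain ⟨φ, hφ⟩ := D4Fixed.exists_frob hq hK
  have hle := D4Fixed.twisted_le_fix hK hφ
  obtain ⟨p, hpc⟩ := CharP.exists K
  have : Fact p.Prime := ⟨CharP.char_is_prime K p⟩
  let cs := CoxeterMatrix.G₂.toCoxeterSystem
  have hW : Finite CoxeterMatrix.G₂.Group := Cfsg.Agent.Nodes.RGDFold.finite_W
    (hp := Cfsg.Agent.Nodes.RGDTwD4.hp) cs isCartan foldData
  have R := rgd cs hK hφ p
  have c0 := card_X0 hφ hle hq.two_le hK
  have c1 := card_X1 (K := K) hφ hle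
  rw [hK] at c1
  have h1 := LieC.cast_neg_one q
  have e1 : (((q ^ 3 : ℕ) : ZMod (q + 1))) = -1 := by rw [Nat.cast_pow, h1]; ring
  have hr : rep cs isCartan (cs.simple 0 * cs.simple 1) (sr 0) = ![2, 3] := by
    rw [rep_mul_apply, rep_refl, rep_refl]
    decide +kernel
  have hroot : IsRoot cs isCartan (![2, 3] : Fin 2 → ℤ) := ⟨_, 0, hr.symm⟩
  have c2 : Nat.card (X φ q ![2, 3]) = q := by
    rw [← hr, Cfsg.Agent.Nodes.CardSup.card_X_rep R _ (isRoot_sr cs _ _), c0]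
  have hfin : Finite ↥(twistedD4 K q) := inferInstance
  refine noHall_of_root R ?_ hroot ?_ 0 1 ?_ ?_ (l := q + 1) ?_ ?_ ?_ ?_
  · rw [eq_top_iff, ← G1_eq_top cs hK hφ]
    exact RGD.Sup_le fun x hx => X_le_GG hx
  · intro i
    fin_cases i <;> decide +kernel
  · intro i hi
    fin_cases i
    · exact absurd rfl hi
    · exact mem_orth.2 (by decide +kernel : pairing A 1 ![2, 3] = 0)
  · intro σ _ hσ e
    have h2 := hσ 0
    rw [e, c1, c0] at h2
    have h3 := hq.two_le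
    nlinarith [Nat.pow_le_pow_left h3 2]
  · have := hq.two_le
    omega
  · refine sq_of_simple R ?_
    intro i
    fin_cases i
    · show ((Nat.card (X φ q (sr 0)) : ℕ) : ZMod (q + 1)) ^ 2 = 1
      rw [c0, h1]; ring
    · show ((Nat.card (X φ q (sr 1)) : ℕ) : ZMod (q + 1)) ^ 2 = 1
      rw [c1, e1]; ring
  · rw [c2, h1]
  · rw [c1, e1]

end D4

namespace E6

open Cfsg.Agent.Nodes.RGDTwE6 Cfsg.Agent.GpExc.TwCard
open Cfsg.Agent.ChevalleyStructure.TwE6Basic (exists_frob)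

theorem noHall {K : Type} [Field K] [Fintype K] {q : ℕ} (hq : IsPrimePow q) (hK : Fintype.card K = q ^ 2) :
    NoHall ↥(twistedE6 K q) := by
  obtain ⟨φ, hφ, hqq⟩ := exists_frob hq hK
  obtain ⟨p, hpc⟩ := CharP.exists K
  have : Fact p.Prime := ⟨CharP.char_is_prime K p⟩
  let cs := CoxeterMatrix.F₄.toCoxeterSystem
  have hW : Finite CoxeterMatrix.F₄.Group := Cfsg.Agent.Nodes.RGDFold.finite_W
    (hp := Cfsg.Agent.Nodes.RGDTwE6.hp) cs isCartan foldData
  have R := rgd cs hφ hqq p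
  have cX := card_simple hφ hqq hq.one_lt hK
  have c2 : Nat.card (X φ q (V chevE6 J 71)) = q ^ ex 71 := card_X hφ hqq hq.one_lt hK cs (by decide +kernel)
  have ex71 : ex 71 = 1 := by decide +kernel
  rw [ex71, pow_one] at c2
  have h1 := LieC.cast_neg_one q
  have e1 : (((q ^ 2 : ℕ) : ZMod (q + 1))) = 1 := by rw [Nat.cast_pow, h1]; ring
  have hroot : IsRoot cs isCartan (V chevE6 J 71) := Cfsg.Agent.GpExc.TwOut.isRoot_V cs (by decide +kernel)
  have hfin : Finite ↥(twistedE6 K q) := inferInstance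
  refine noHall_of_root R ?_ hroot ?_ 0 1 ?_ ?_ (l := q + 1) ?_ ?_ ?_ ?_
  · rw [eq_top_iff, ← G1_eq_top cs hφ hqq]
    exact RGD.Sup_le fun x hx => X_le_GG hx
  · exact (by decide +kernel : ∀ i, 0 ≤ pairing A i (V chevE6 J 71))
  · intro i hi
    exact mem_orth.2 ((by decide +kernel : ∀ i, i ≠ 0 → pairing A i (V chevE6 J 71) = 0) i hi)
  · intro σ hσ _
    exact LieC.sigma_ne hσ (u := 0) (v := 1) (c := 1) (a := 0) (b := 2) (by decide) (by decide) (by decide)
      (by decide) (by decide) (by decide)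
  · have := hq.two_le
    omega
  · refine sq_of_simple R ?_
    intro i
    rw [cX i]
    split_ifs
    · rw [pow_one, h1]; ring
    · rw [e1]; ring
  · rw [c2, h1]
  · rw [cX, if_pos (Or.inr rfl), pow_one, h1]

end E6

end Cfsg.Agent.H554.LieTw
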