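import Mathlib
import Cfsg.Agent.H554.LieSz
import Cfsg.Agent.Mrg.ParSys.Fam.TwoFFour
import Cfsg.Agent.S1072
import Cfsg.Agent.S1068
import Cfsg.Agent.S1110

/-!
# No Hall systems: `²F₄(q)`, `q ≥ 8` (helper554)
-/

set_option autoImplicit false
set_option linter.unusedSectionVars false
set_option linter.style.haveILetI false

namespace Cfsg.Agent.H554.LieTwF4

open Cfsg.Lie
open Cfsg.Agent.ChevalleyStructure.TwF4.Tables
open Cfsg.Agent.ChevalleyStructure.TwF4.Rel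
open Cfsg.Agent.ChevalleyStructure.TwF4.Groups Cfsg.Agent.ChevalleyStructure.TwF4.RankOne
open Cfsg.Agent.ChevalleyStructure.TwF4.Twisted Cfsg.Agent.ChevalleyStructure.TwF4.TwistedFix
open Cfsg.Agent.ChevalleyStructure.TwF4.BN
open Cfsg.Agent.ChevalleyStructure.TwF4.Torus (T chi T_conj_X T_inr chi_def)
open Cfsg.Agent.ChevalleyStructure.F4NTab (ca)
open Cfsg.Agent.ChevalleyStructure.TwF4.TwGen (tc tc_mul chi_tc_24 chi_tc_25 chi_tc_33 chi_tc_27 chi28 chi30 pow_all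
  n1_eq n2_eq n1_conj_T n2_conj_T)
open Cfsg.Agent.ChevalleyStructure.TwF4.TorusFix (mem_iff pow_unit T_rt rt)
open Cfsg.Agent.ChevalleyStructure.TwF4.Fix (Fix)
open Cfsg.Agent.ChevalleyStructure.TwF4.OrderCls (X_inj)
open Cfsg.Agent.Schreier.TwFFour
open Cfsg.Agent.Octagon.KSys Cfsg.Agent.Octagon.KPar Cfsg.Agent.Octagon.KRoot Cfsg.Agent.Octagon.Pkg
open Cfsg.Agent.ParSys.Fam.TwoFFour

variable {K : Type*} [Field K] [Fintype K] {m : ℕ}

/-- the split (B,N)-pair of `²F₄(q)` -/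
theorem exists_split (hm : 1 ≤ m) (hK : Fintype.card K = 2 ^ (2 * m + 1)) :
    ∃ (P : Cfsg.BNPair ↥(twistedF4 K (2 ^ m))) (U : Subgroup ↥(twistedF4 K (2 ^ m))), P.S.Nonempty ∧
      FixBN.Split P 2 U ∧ Nat.card ↥(P.B ⊓ P.N) = (2 ^ (2 * m + 1) - 1) ^ 2 := by
  haveI : CharP K 2 := charP_two hK
  haveI : Fact (Nat.Prime 2) := ⟨Nat.prime_two⟩
  obtain ⟨φ, hφ⟩ := exists_rln hK
  obtain ⟨P, hPB, hPN, -, hPS⟩ := Cfsg.Agent.ChevalleyStructure.TwF4.BNIrred.exists_bnPair_irreducible hφ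
  have hB : P.B = B0 K (2 ^ m) := hPB
  have hdec := dec hK hφ
  have hUp := isPGroup_U0 hK
  obtain ⟨c, hc0, hc1⟩ := card_ge hm hK
  set s1 : ↥(twistedF4 K (2 ^ m)) := m1 K (2 ^ m) with hs1
  set s2 : ↥(twistedF4 K (2 ^ m)) := m2 hφ with hs2
  have node_1 : Cfsg.Agent.Schreier.BNSch.Node P (U0 K (2 ^ m)) s1 (V1 K (2 ^ m)) := node1 hφ hB
  have node_2 : Cfsg.Agent.Schreier.BNSch.Node P (U0 K (2 ^ m)) s2 (V8 K (2 ^ m)) := node2 hφ hB
  have hdB : ∀ b ∈ P.B, ∃ s t : Kˣ, ∃ u ∈ U0 K (2 ^ m), b = u * tt hdec s t := by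
    intro b hb
    rw [hB] at hb
    obtain ⟨s, t, u, hu, hbu⟩ := hdec.1 b hb
    exact ⟨s, t, u, hu, Subtype.ext hbu⟩
  have httB : ∀ s t : Kˣ, tt hdec s t ∈ P.B := fun s t => by rw [hB]; exact tt_B0 hdec s t
  have httN : ∀ s t : Kˣ, tt hdec s t ∈ P.N := fun s t => by
    rw [hPN]
    exact Cfsg.Agent.ChevalleyStructure.TwF4.NStruct.T_mem_N _
  have hH : ∀ h ∈ P.B, h ∈ P.N → ∃ s t : Kˣ, h = tt hdec s t := by
    intro h hh hN
    rw [hPB, Subgroup.mem_subgroupOf] at hh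
    rw [hPN, Subgroup.mem_subgroupOf] at hN
    have h1 := borel_inf_N ⟨hh, hN⟩
    obtain ⟨s, t, hst⟩ := (mem_iff hK (h : GL chevF4.Idx K)).1 ⟨h1, h.2⟩
    exact ⟨s, t, Subtype.ext hst⟩
  have hUB : U0 K (2 ^ m) ≤ P.B := by rw [hB]; exact U0_le_B0
  have hnorm : ∀ b ∈ P.B, ∀ u ∈ U0 K (2 ^ m), b * u * b⁻¹ ∈ U0 K (2 ^ m) := fun b hb u hu => by
    rw [hB] at hb
    exact conj_U0 hb hu
  have hsplit : FixBN.Split P 2 (U0 K (2 ^ m)) :=
    { le := hUB
      norm := hnorm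
      isP := hUp
      cover := fun b hb => by
        obtain ⟨s, t, u, hu, rfl⟩ := hdB b hb
        refine ⟨u, hu, ?_⟩
        rw [inv_mul_cancel_left]
        exact httN s t
      tor := ⟨2 ^ (2 * m + 1) - 1, by
        have h1 : 2 ∣ 2 ^ (2 * m + 1) := dvd_pow_self 2 (by omega)
        have h2 : 0 < 2 ^ (2 * m + 1) := by positivity
        omega, fun h hh hN => by
        obtain ⟨s, t, rfl⟩ := hH h hh hN
        apply Subtype.ext
        show T (tc (2 ^ m) s t) ^ (2 ^ (2 * m + 1) - 1) = 1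
        rw [← map_pow]
        have h2 : tc (2 ^ m) s t ^ (2 ^ (2 * m + 1) - 1) = 1 := by
          have h3 : ∀ x : Kˣ, x ^ (2 ^ (2 * m + 1) - 1) = 1 := by
            intro x
            have h4 := pow_card_eq_one' (x := x)
            rwa [Nat.card_units, Nat.card_eq_fintype_card, hK] at h4
          funext l
          rw [Pi.pow_apply, h3]; rfl
        rw [h2, map_one]⟩
      node := by
        intro s hs
        rw [hPS] at hs
        rcases hs with rfl | hs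
        · exact ⟨_, node_1⟩
        · rw [Set.mem_singleton_iff] at hs
          subst hs
          exact ⟨_, node_2⟩
      core := by
        obtain ⟨hsimp, -⟩ := Cfsg.Agent.S1072.result hm hK
        rcases hsimp.eq_bot_or_eq_top_of_normal P.B.normalCore inferInstance with h | h
        · exact h
        · exfalso
          have h1 : P.B = ⊤ := by
            rw [eq_top_iff, ← h]
            exact Subgroup.normalCore_le _
          obtain ⟨u, hu, huV⟩ := node_1.ne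
          exact huV (node_1.stab u hu (by rw [h1]; exact Subgroup.mem_top _)) }
  have hdiag : ∀ g : ↥(twistedF4 K (2 ^ m)), g ∈ P.B → g ∈ P.N →
      (g : GL chevF4.Idx K) ∈ chevF4.diagonalSubgroup K ⊓ twistedF4 K (2 ^ m) := by
    intro g hh hN
    rw [hPB, Subgroup.mem_subgroupOf] at hh
    rw [hPN, Subgroup.mem_subgroupOf] at hN
    exact ⟨borel_inf_N ⟨hh, hN⟩, g.2⟩
  refine ⟨P, _, ⟨s1, ?_⟩, hsplit, ?_⟩
  · rw [hPS]
    exact Set.mem_insert _ _
  · rw [← Cfsg.Agent.S1110.result hK]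
    refine Nat.card_congr (Equiv.ofBijective (fun g : ↥(P.B ⊓ P.N) =>
      (⟨((g : ↥(twistedF4 K (2 ^ m))) : GL chevF4.Idx K), ?_⟩ :
        ↥(chevF4.diagonalSubgroup K ⊓ twistedF4 K (2 ^ m)))) ⟨?_, ?_⟩)
    · exact hdiag g.1 g.2.1 g.2.2
    · intro a b e
      exact Subtype.ext (Subtype.ext (congrArg (fun z : ↥(chevF4.diagonalSubgroup K ⊓ twistedF4 K (2 ^ m)) =>
        (z : GL chevF4.Idx K)) e))
    · rintro ⟨g, hg⟩
      obtain ⟨s, t, hst⟩ := (mem_iff hK g).1 hg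
      exact ⟨⟨tt hdec s t, httB s t, httN s t⟩, Subtype.ext hst.symm⟩

open Cfsg.Agent.H554.SplitTorus in
/-- **`²F₄(q)`, `q ≥ 8`.** -/
theorem noHall (hm : 1 ≤ m) (hK : Fintype.card K = 2 ^ (2 * m + 1)) : NoHall ↥(twistedF4 K (2 ^ m)) := by
  obtain ⟨hs, hna⟩ := Cfsg.Agent.S1072.result hm hK
  have hcard := Cfsg.Agent.S1068.result hK
  obtain ⟨P, U, hne, hsp, htor⟩ := exists_split hm hK
  have hfin : Finite ↥(twistedF4 K (2 ^ m)) := inferInstance
  have hp2 : Fact (Nat.Prime 2) := ⟨Nat.prime_two⟩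
  set q := 2 ^ (2 * m + 1) with hq
  have hq8 : 8 ≤ q := by
    calc 8 = 2 ^ 3 := by norm_num
      _ ≤ 2 ^ (2 * m + 1) := Nat.pow_le_pow_right (by norm_num) (by omega)
  have heven : 2 ∣ q := dvd_pow_self 2 (by omega)
  obtain ⟨r, hr, hrd⟩ := Nat.exists_prime_and_dvd (n := q - 1) (by omega)
  have hr2 : r ≠ 2 := by
    rintro rfl
    omega
  have hrq : ¬ r ∣ q := by
    intro h1
    have h2 : r ∣ 1 := by
      have h3 := Nat.dvd_sub h1 hrd
      rwa [show q - (q - 1) = 1 by omega] at h3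
    exact hr.one_lt.ne' (Nat.dvd_one.mp h2)
  refine noHall_of_split hna P hne hsp hr ?_ ?_
  · rw [htor, pow_two]
    exact hrd.mul_right _
  · intro hB
    have h1 : Nat.card ↥(P.B ⊓ P.N) * (P.B ⊓ P.N).relIndex P.B = Nat.card P.B := RG.card_mul_relIndex' inf_le_left
    have h3 := P.B.card_mul_index
    rw [← h1, htor, hcard] at h3
    obtain ⟨k, hk⟩ : ∃ k, q = k + 1 := ⟨q - 1, by omega⟩
    have hk1 : q - 1 = k := by omega
    have hq4 : q ^ 4 - 1 = k * ((q + 1) * (q ^ 2 + 1)) := by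
      have : q ^ 4 = k * ((q + 1) * (q ^ 2 + 1)) + 1 := by rw [hk]; ring
      omega
    rw [hk1, hq4] at h3
    have h4 : (P.B ⊓ P.N).relIndex P.B * P.B.index = q ^ 12 * ((q ^ 3 + 1) * ((q + 1) * (q ^ 2 + 1)) * (q ^ 6 + 1)) := by
      have h5 : k ^ 2 * ((P.B ⊓ P.N).relIndex P.B * P.B.index) =
          k ^ 2 * (q ^ 12 * ((q ^ 3 + 1) * ((q + 1) * (q ^ 2 + 1)) * (q ^ 6 + 1))) := by
        rw [← mul_assoc, h3]
        ring
      have hkpos : 0 < k ^ 2 := by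
        have : 0 < k := by omega
        positivity
      exact Nat.eq_of_mul_eq_mul_left hkpos h5
    have h5 : r ∣ q ^ 12 * ((q ^ 3 + 1) * ((q + 1) * (q ^ 2 + 1)) * (q ^ 6 + 1)) := by
      rw [← h4]
      exact hB.mul_left _
    rw [← CharP.cast_eq_zero_iff (ZMod r) r] at h5
    have h6 : ((q : ℕ) : ZMod r) = 1 := by
      have h7 : ((q - 1 : ℕ) : ZMod r) = 0 := (CharP.cast_eq_zero_iff (ZMod r) r _).mpr hrd
      rw [Nat.cast_sub (by omega), Nat.cast_one, sub_eq_zero] at h7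
      exact h7
    push_cast at h5
    have h8 : ((2 ^ 4 : ℕ) : ZMod r) = 0 := by
      push_cast
      have h6' : (((2 : ZMod r)) ^ (2 * m + 1)) = 1 := by
        rw [hq] at h6
        push_cast at h6
        exact h6
      rw [hq] at h5
      push_cast at h5
      rw [h6'] at h5
      ring_nf at h5 ⊢
      exact h5
    rw [CharP.cast_eq_zero_iff (ZMod r) r] at h8
    exact hr2 ((Nat.prime_dvd_prime_iff_eq hr Nat.prime_two).mp (hr.dvd_of_dvd_pow h8))

end Cfsg.Agent.H554.LieTwF4
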